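import Cfsg.Agent.AutPSL.Structure
import Cfsg.Agent.Classical.LinearBasic

/-!
The abstract properties of `PGL₂(p)`, `p ≥ 5`, used for products of a cyclic group and a Z-group:
a simple normal subgroup of index 2 with trivial centraliser and few automorphisms.
-/

set_option autoImplicit false
set_option linter.style.haveILetI false

namespace Cfsg.Agent.CyclicZ

open Subgroup

/-- `X` is isomorphic to `PGL₂(p)` for a prime `p > 3`. -/
def IsTarget (X : Type*) [Group X] : Prop :=
  ∃ p : ℕ, p.Prime ∧ 3 < p ∧ Nonempty (X ≃* Matrix.ProjGenLinGroup (Fin 2) (ZMod p))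

/-- The properties of `PGL₂(p)` that get used. -/
structure IsLike {X : Type*} [Group X] (T : Subgroup X) : Prop where
  normal : T.Normal
  simple : IsSimpleGroup T
  notSolvable : ¬ Group.IsSolvable T
  index : T.index = 2
  cent : Subgroup.centralizer (T : Set X) = ⊥
  even : 2 ∣ Nat.card T
  aut : Nat.card (MulAut T) ≤ Nat.card X

theorem isSolvable_sup_normal {G : Type*} [Group G] (A B : Subgroup G) [A.Normal]
    (hA : Group.IsSolvable A) (hB : Group.IsSolvable B) :
    Group.IsSolvable (A ⊔ B : Subgroup G) := by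
  haveI : Group.IsSolvable (A.subgroupOf (A ⊔ B)) :=
    Group.isSolvable_of_isSolvable_injective
      (f := (subgroupOfEquivOfLe (le_sup_left : A ≤ A ⊔ B)).toMonoidHom) (MulEquiv.injective _)
  haveI : Group.IsSolvable ((A ⊔ B : Subgroup G) ⧸ A.subgroupOf (A ⊔ B)) := by
    refine Group.isSolvable_of_surjective
      (f := (QuotientGroup.mk' _).comp (inclusion (le_sup_right : B ≤ A ⊔ B))) fun q => ?_
    obtain ⟨⟨y, hy⟩, rfl⟩ := QuotientGroup.mk'_surjective _ q
    obtain ⟨a, ha, b, hb, rfl⟩ := mem_sup_of_normal_left.mp hy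
    refine ⟨⟨b, hb⟩, QuotientGroup.eq.2 ?_⟩
    show b⁻¹ * (a * b) ∈ A
    simpa [mul_assoc] using Subgroup.Normal.conj_mem inferInstance a ha b⁻¹
  exact (Group.isSolvable_iff_subgroup_quotient (A.subgroupOf (A ⊔ B))).2 ⟨‹_›, ‹_›⟩

theorem exists_radical (G : Type*) [Group G] [Finite G] :
    ∃ R : Subgroup G, R.Normal ∧ Group.IsSolvable R ∧
      ∀ N : Subgroup G, N.Normal → Group.IsSolvable N → N ≤ R := by
  obtain ⟨R, -, hR⟩ := Finite.exists_le_maximal
    (p := fun N : Subgroup G => N.Normal ∧ Group.IsSolvable N) (a := ⊥)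
    ⟨inferInstance, inferInstance⟩
  refine ⟨R, hR.1.1, hR.1.2, fun N hN hNs => ?_⟩
  haveI := hR.1.1
  exact le_sup_right.trans (hR.2 ⟨sup_normal R N,
    isSolvable_sup_normal R N hR.1.2 hNs⟩ le_sup_left)

theorem isSolvable_of_le {G : Type*} [Group G] {H K : Subgroup G} (h : H ≤ K)
    (hK : Group.IsSolvable K) : Group.IsSolvable H :=
  Group.isSolvable_of_isSolvable_injective (f := inclusion h) (inclusion_injective h)

theorem isSolvable_map {G G' : Type*} [Group G] [Group G'] (f : G →* G') {H : Subgroup G}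
    (hH : Group.IsSolvable H) : Group.IsSolvable (H.map f) :=
  Group.isSolvable_of_surjective (f := f.subgroupMap H) (f.subgroupMap_surjective H)

/-- `PGL₂(p)` and its copies. -/
theorem IsTarget.exists_isLike {X : Type*} [Group X] [Finite X] (h : IsTarget X) :
    ∃ T : Subgroup X, IsLike T := by
  classical
  obtain ⟨p, hp, hp3, ⟨e⟩⟩ := h
  haveI := Fact.mk hp
  let F := ZMod p
  let P := Matrix.ProjGenLinGroup (Fin 2) F
  let S := Matrix.ProjectiveSpecialLinearGroup (Fin 2) F
  have hx : ∃ x : F, x ≠ 0 ∧ x ^ 2 ≠ 1 := by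
    have h2 : ((2 : ℕ) : F) ≠ 0 := fun h0 => by
      have := Nat.le_of_dvd (by norm_num) ((ZMod.natCast_eq_zero_iff 2 p).1 h0); omega
    have h3 : ((3 : ℕ) : F) ≠ 0 := fun h0 => by
      have := Nat.le_of_dvd (by norm_num) ((ZMod.natCast_eq_zero_iff 3 p).1 h0); omega
    refine ⟨2, by exact_mod_cast h2, fun h0 => h3 ?_⟩
    push_cast
    linear_combination h0
  have hsimp : IsSimpleGroup S :=
    Classical.isSimpleGroup_psl (Or.inr ⟨by simp, hx⟩)
  let ι : S →* P := Matrix.ProjectiveSpecialLinearGroup.toPGL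
  have hcomm : commutator P = ι.range := by
    have h1 : commutator P =
        (commutator (Matrix.GeneralLinearGroup (Fin 2) F)).map Matrix.ProjGenLinGroup.mk := by
      rw [commutator_def, commutator_def, Subgroup.map_commutator,
        Subgroup.map_top_of_surjective _ Matrix.ProjGenLinGroup.mk_surjective]
    rw [h1, Classical.commutator_gl (fun _ => by
      obtain ⟨x, hx0, hx1⟩ := hx
      exact ⟨x, hx0, fun e1 => hx1 (by rw [e1, one_pow])⟩),
      ← Classical.range_toGL_eq_ker_det, MonoidHom.map_range]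
    refine le_antisymm ?_ ?_
    · rintro _ ⟨s, rfl⟩
      exact ⟨QuotientGroup.mk s, rfl⟩
    · rintro _ ⟨s, rfl⟩
      obtain ⟨s, rfl⟩ := QuotientGroup.mk_surjective s
      exact ⟨s, rfl⟩
  have hmap : (commutator X).map e.toMonoidHom = ι.range := by
    rw [commutator_def, Subgroup.map_commutator, Subgroup.map_top_of_surjective _ e.surjective,
      ← commutator_def]
    exact hcomm
  let eT : commutator X ≃* S :=
    ((commutator X).equivMapOfInjective e.toMonoidHom e.injective).trans
      ((MulEquiv.subgroupCongr hmap).trans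
        (MonoidHom.ofInjective Matrix.ProjectiveSpecialLinearGroup.toPGL_injective).symm)
  have hTsimp : IsSimpleGroup (commutator X) := eT.isSimpleGroup
  have hcardX : Nat.card X = Nat.card P := Nat.card_congr e.toEquiv
  have hcardS : 2 * Nat.card S = Nat.card P := by
    rw [Classical.card_pgl, ← Classical.card_psl_mul (ι := Fin 2) (F := F), Fintype.card_fin,
      ZMod.card]
    have : Nat.gcd 2 (p - 1) = 2 :=
      Nat.gcd_eq_left (by
        have := hp.odd_of_ne_two (by omega)
        obtain ⟨k, rfl⟩ := this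
        exact ⟨k, by omega⟩)
    rw [this]
  have hcardT : Nat.card (commutator X) = Nat.card S := Nat.card_congr eT.toEquiv
  have hindex : (commutator X).index = 2 := by
    have h1 := (commutator X).card_mul_index
    rw [hcardT, hcardX, ← hcardS, mul_comm 2] at h1
    exact Nat.eq_of_mul_eq_mul_left Nat.card_pos h1
  have haut : Nat.card (MulAut (AutPSL.PSLn 2 F)) = Nat.card P := by
    rw [AutPSL.card_mulAut (n := 2) (F := F) p (AutPSL.isComplementHom_two p) le_rfl,
      (AutPSL.card_gal (p := p) (f := 1) le_rfl (by rw [ZMod.card, pow_one])).2, one_mul]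
  obtain ⟨k, hk⟩ := hp.odd_of_ne_two (by omega)
  have hk2 : 2 ≤ k := by omega
  have hcS : Nat.card S = 2 * (k * (k + 1) * (2 * k + 1)) := by
    have h1 := Classical.card_psl_mul (ι := Fin 2) (F := F)
    have h2 := Classical.card_sl_mul (F := F) (ZMod.card p) 2 (by norm_num)
    rw [← h1, Fintype.card_fin, ZMod.card, Nat.gcd_eq_left ⟨k, by omega⟩, Fin.prod_univ_two] at h2
    simp only [Fin.val_zero, Fin.val_one, pow_zero, pow_one] at h2
    have e1 : p - 1 = 2 * k := by omega
    have e2 : p ^ 2 - 1 = 4 * (k * (k + 1)) := by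
      rw [show p ^ 2 = 4 * (k * (k + 1)) + 1 by rw [hk]; ring, Nat.add_sub_cancel]
    have e3 : p ^ 2 - p = 2 * k * (2 * k + 1) := by
      rw [show p ^ 2 = 2 * k * (2 * k + 1) + p by rw [hk]; ring, Nat.add_sub_cancel]
    rw [e1, e2, e3] at h2
    refine Nat.eq_of_mul_eq_mul_left (show 0 < 4 * k by omega) ?_
    calc 4 * k * Nat.card S = 2 * k * (2 * Nat.card S) := by ring
      _ = _ := h2.trans (by ring)
  have hTeven : 2 ∣ Nat.card (commutator X) := by rw [hcardT, hcS]; exact dvd_mul_right _ _
  have hTsol : ¬ Group.IsSolvable (commutator X) := by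
    intro hs
    haveI := hTsimp
    haveI : Group.IsSolvable (commutator X) := hs
    letI : CommGroup (commutator X) :=
      { (inferInstance : Group (commutator X)) with
        mul_comm := IsSimpleGroup.comm_iff_isSolvable.2 hs }
    have hpr : (Nat.card (commutator X)).Prime := IsSimpleGroup.prime_card
    have h2 := (Nat.prime_dvd_prime_iff_eq Nat.prime_two hpr).1 hTeven
    rw [hcardT, hcS] at h2
    have : 2 * 3 * 5 ≤ k * (k + 1) * (2 * k + 1) :=
      Nat.mul_le_mul (Nat.mul_le_mul hk2 (by omega)) (by omega)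
    omega
  have hcent : centralizer ((commutator X : Subgroup X) : Set X) = ⊥ := by
    refine eq_bot_iff.2 fun x hx => ?_
    obtain ⟨g, hg⟩ := Matrix.ProjGenLinGroup.mk_surjective (e x)
    suffices g ∈ center (Matrix.GeneralLinearGroup (Fin 2) F) by
      rw [Subgroup.mem_bot, ← e.map_eq_one_iff, ← hg, Matrix.ProjGenLinGroup.mk_eq_one]
      exact this
    rw [← AutPSL.conjA_eq_one_iff p le_rfl]
    refine AutPSL.autExt fun s => ?_
    rw [AutPSL.conjA_mkP, MulAut.one_apply]
    apply Matrix.ProjectiveSpecialLinearGroup.toPGL_injective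
    obtain ⟨y, hy, hye⟩ : ι (AutPSL.mkP s) ∈ (commutator X).map e.toMonoidHom := by
      rw [hmap]; exact ⟨_, rfl⟩
    have hc : y * x = x * y := mem_centralizer_iff.1 hx y hy
    have hconj : e x * ι (AutPSL.mkP s) * (e x)⁻¹ = ι (AutPSL.mkP s) := by
      have hye' : e y = ι (AutPSL.mkP s) := hye
      rw [← hye', ← map_mul, ← hc, map_mul, mul_inv_cancel_right]
    refine Eq.trans ?_ hconj
    rw [← hg]
    show Matrix.ProjGenLinGroup.mk (Matrix.SpecialLinearGroup.toGL (AutPSL.conjSL g s)) =
      Matrix.ProjGenLinGroup.mk g * Matrix.ProjGenLinGroup.mk (Matrix.SpecialLinearGroup.toGL s) *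
        (Matrix.ProjGenLinGroup.mk g)⁻¹
    rw [← map_inv, ← map_mul, ← map_mul]
    congr 1
    exact Units.ext (AutPSL.conjSL_coe g s)
  refine ⟨commutator X, inferInstance, hTsimp, hTsol, hindex, hcent, hTeven, ?_⟩
  rw [hcardX, ← haut, Nat.card_congr (MulAut.congr eT).toEquiv]

end Cfsg.Agent.CyclicZ
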