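import Cfsg.Agent.CyclicZ.Fusion
import Cfsg.Agent.Zassenhaus.PrimePGL
import Cfsg.Agent.Char.Integral

/-!
The primitive case: counting the involutions that swap two points shows that the group is sharply
triply transitive of degree `p + 1`, hence `PGL₂(p)`.
-/

set_option autoImplicit false
set_option linter.style.haveILetI false
set_option linter.unusedSectionVars false

namespace Cfsg.Agent.CyclicZ

open Subgroup MulAction

universe u

variable {G : Type u} {Ω : Type*} [Group G] [Finite G] [MulAction G Ω] [Fintype Ω] [DecidableEq Ω]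
  {A : Subgroup G} (S : Setting G Ω A)
include S

/-- Only the identity fixes three points, provided the two-point stabilisers are semiregular on
the kernel; this is the counting conclusion. -/
theorem Setting.exists_prime_degree :
    ∃ (a b : Ω) (p : ℕ), a ≠ b ∧ p.Prime ∧ Fintype.card Ω = p + 1 ∧
      Nat.card (kerF G a) = p ∧ Nat.card (Zassenhaus.twoPt G a b) = p - 1 ∧
      ∀ e ∈ Zassenhaus.twoPt G a b, ∀ q, q ≠ a → q ≠ b → e • q = q → e = 1 := by
  classical
  haveI := Fact.mk Nat.prime_two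
  haveI := S.transitive
  haveI := Fintype.ofFinite G
  have h3 := S.three
  rw [Nat.card_eq_fintype_card] at h3
  obtain ⟨n2, hn2⟩ := S.even
  haveI : Nontrivial Ω := Fintype.one_lt_card_iff_nontrivial.1 (by omega)
  obtain ⟨a, b, hab⟩ := exists_pair_ne Ω
  set D := Zassenhaus.twoPt G a b with hD
  obtain ⟨⟨t, htD⟩, htord⟩ := exists_prime_orderOf_dvd_card' 2 (S.even_twoPt hab)
  rw [orderOf_mk] at htord
  have htfix : ∀ q, t • q = q → q = a ∨ q = b := fun q hq => S.fix_two hab htD htord hq
  -- a fixed-point-free involution swapping the two points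
  obtain ⟨w, hw2, hwa, hwb, hwfree⟩ : ∃ w : G, w * w = 1 ∧ w • a = b ∧ w • b = a ∧
      ∀ q : Ω, w • q ≠ q := by
    have hA2 : 2 ∣ Nat.card A := by rw [S.card_A]; exact S.even.two_dvd
    obtain ⟨⟨v, hv⟩, hvo⟩ := exists_prime_orderOf_dvd_card' 2 hA2
    rw [orderOf_mk] at hvo
    have hv1 : ∀ q : Ω, v • q ≠ q := fun q e => by
      rw [S.semiregular hv e, orderOf_one] at hvo; omega
    have hvv : v * v = 1 := by rw [← sq, ← hvo, pow_orderOf_eq_one]
    obtain ⟨g, hg1, hg2⟩ := S.two (hv1 a).symm hab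
    refine ⟨g * v * g⁻¹, ?_, ?_, ?_, fun q e => hv1 (g⁻¹ • q) ?_⟩
    · rw [show g * v * g⁻¹ * (g * v * g⁻¹) = g * (v * v) * g⁻¹ by group, hvv, mul_one, mul_inv_cancel]
    · rw [mul_smul, mul_smul, inv_smul_eq_iff.2 hg1.symm, hg2]
    · rw [mul_smul, mul_smul, inv_smul_eq_iff.2 hg2.symm, ← mul_smul v v, hvv, one_smul, hg1]
    · rw [mul_smul, mul_smul] at e
      exact eq_inv_smul_iff.2 e
  have hwinv : w⁻¹ = w := inv_eq_of_mul_eq_one_right hw2
  -- the inverted part of the two-point stabiliser
  let J : Subgroup G :=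
    { carrier := {d | d ∈ D ∧ w * d * w⁻¹ = d⁻¹}
      one_mem' := ⟨one_mem D, by simp⟩
      mul_mem' := fun {x y} hx hy => ⟨mul_mem hx.1 hy.1, by
        rw [show w * (x * y) * w⁻¹ = w * x * w⁻¹ * (w * y * w⁻¹) by group, hx.2, hy.2, mul_inv_rev,
          S.twoPt_comm hab (inv_mem hx.1) (inv_mem hy.1)]⟩
      inv_mem' := fun {x} hx => ⟨inv_mem hx.1, by
        rw [show w * x⁻¹ * w⁻¹ = (w * x * w⁻¹)⁻¹ by group, hx.2]⟩ }
  have hJD : J ≤ D := fun x hx => hx.1
  -- every swapper centralises `t`
  have hswap : ∀ g : G, g • a = b → g • b = a → g * t = t * g := fun g h1 h2 => by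
    have hmem : g * t * g⁻¹ ∈ D := zpowers_le.2 htD (S.swap_mem_zpowers hab htD h1 h2)
    have := involution_unique (S.twoPt_cyclic hab) hmem htD
      (by rw [← htord]; exact orderOf_injective (MulAut.conj g).toMonoidHom (MulAut.conj g).injective t)
      htord
    rwa [mul_inv_eq_iff_eq_mul] at this
  -- the centraliser of `t`
  set C := centralizer ({t} : Set G) with hC
  have hCidx : (stabilizer C a).index = 2 := by
    rw [MulAction.index_stabilizer]
    have : orbit C a = {a, b} := by
      ext q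
      constructor
      · rintro ⟨g, rfl⟩
        exact htfix _ ((fixed_iff_of_comm (mem_centralizer_singleton_iff.1 g.2) a).2 htD.1)
      · rintro (rfl | rfl)
        · exact mem_orbit_self _
        · exact ⟨⟨w, mem_centralizer_singleton_iff.2 (hswap w hwa hwb)⟩, hwa⟩
    rw [this, Set.ncard_pair hab]
  have hCa : Nat.card (stabilizer C a) = Nat.card D := by
    refine Nat.card_congr
      ⟨fun g => ⟨((g : C) : G), g.2, ?_⟩, fun e => ⟨⟨e, mem_centralizer_singleton_iff.2
        (S.twoPt_comm hab e.2 htD)⟩, e.2.1⟩, fun _ => rfl, fun _ => rfl⟩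
    have h1 : ((g : C) : G) • b = a ∨ ((g : C) : G) • b = b :=
      htfix _ ((fixed_iff_of_comm (mem_centralizer_singleton_iff.1 (g : C).2) b).2 htD.2)
    exact h1.resolve_left fun e => hab (MulAction.injective ((g : C) : G) (g.2.trans e.symm))
  -- the conjugates of `t`
  set T : Finset G := Finset.univ.filter fun x => ∃ g : G, x = g * t * g⁻¹ with hT
  have hTcard : T.card * (2 * Nat.card D) = Nat.card G := by
    rw [← hCidx, ← hCa, (stabilizer C a).index_mul_card, ← C.index_mul_card]
    congr 1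
    rw [index_eq_card]
    refine Eq.symm ((Nat.card_eq_of_bijective (fun q : G ⧸ C => (⟨Quotient.liftOn' q (fun g => g * t * g⁻¹)
      fun g h hgh => ?_, ?_⟩ : T)) ⟨?_, ?_⟩).trans ?_)
    · have hc := mem_centralizer_singleton_iff.1 (QuotientGroup.leftRel_apply.1 hgh)
      calc g * t * g⁻¹ = g * (t * (g⁻¹ * h)) * h⁻¹ := by group
        _ = g * (g⁻¹ * h * t) * h⁻¹ := by rw [hc]
        _ = h * t * h⁻¹ := by group
    · induction q using QuotientGroup.induction_on with
      | H g => exact Finset.mem_filter.2 ⟨Finset.mem_univ _, g, rfl⟩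
    · intro x y hxy
      induction x using QuotientGroup.induction_on with
      | H g =>
        induction y using QuotientGroup.induction_on with
        | H h =>
          have e : g * t * g⁻¹ = h * t * h⁻¹ := congrArg Subtype.val hxy
          refine QuotientGroup.eq.2 (mem_centralizer_singleton_iff.2 ?_)
          calc g⁻¹ * h * t = g⁻¹ * (h * t * h⁻¹) * h := by group
            _ = g⁻¹ * (g * t * g⁻¹) * h := by rw [e]
            _ = t * (g⁻¹ * h) := by group
    · rintro ⟨x, hx⟩
      obtain ⟨g, rfl⟩ := (Finset.mem_filter.1 hx).2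
      exact ⟨(g : G ⧸ C), rfl⟩
    · rw [Nat.card_eq_fintype_card, Fintype.card_coe]
  -- the swapping conjugates of each pair
  set k := (T.filter fun x : G => x • a = b).card with hk
  have hTinv : ∀ x ∈ T, x * x = 1 := fun x hx => by
    obtain ⟨g, rfl⟩ := (Finset.mem_filter.1 hx).2
    rw [show g * t * g⁻¹ * (g * t * g⁻¹) = g * (t * t) * g⁻¹ by group, ← sq, ← htord,
      pow_orderOf_eq_one, mul_one, mul_inv_cancel]
  have hpair : ∀ p q : Ω, p ≠ q → (T.filter fun x : G => x • p = q).card = k := by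
    intro p q hpq
    obtain ⟨g, hg1, hg2⟩ := S.two hab hpq
    refine (Finset.card_equiv (MulAut.conj g).toEquiv fun x => ?_).symm
    simp only [Finset.mem_filter, Finset.mem_univ, true_and, hT]
    show _ ↔ (∃ h, g * x * g⁻¹ = h * t * h⁻¹) ∧ (g * x * g⁻¹) • p = q
    refine and_congr ⟨?_, ?_⟩ ?_
    · rintro ⟨h, rfl⟩; exact ⟨g * h, by group⟩
    · rintro ⟨h, e⟩
      exact ⟨g⁻¹ * h, by rw [show x = g⁻¹ * (g * x * g⁻¹) * g by group, e]; group⟩
    · rw [mul_smul, mul_smul, inv_smul_eq_iff.2 hg1.symm, ← hg2]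
      exact (smul_left_cancel_iff g).symm
  have hmoved : ∀ x ∈ T, (Finset.univ.filter fun p : Ω => x • p ≠ p).card = Fintype.card Ω - 2 := by
    intro x hx
    obtain ⟨g, rfl⟩ := (Finset.mem_filter.1 hx).2
    have : (Finset.univ.filter fun p : Ω => (g * t * g⁻¹) • p ≠ p) = Finset.univ \ {g • a, g • b} := by
      ext p
      simp only [Finset.mem_filter, Finset.mem_univ, true_and, Finset.mem_sdiff, Finset.mem_insert,
        Finset.mem_singleton, ne_eq, mul_smul, smul_eq_iff_eq_inv_smul g]
      refine not_congr ⟨fun e => ?_, ?_⟩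
      · rcases htfix _ e with e' | e'
        · exact Or.inl (inv_smul_eq_iff.1 e')
        · exact Or.inr (inv_smul_eq_iff.1 e')
      · rintro (e | e) <;> rw [e, inv_smul_smul]
        · exact htD.1
        · exact htD.2
    rw [this, ← Finset.compl_eq_univ_sdiff, Finset.card_compl, Finset.card_pair]
    exact fun e => hab (MulAction.injective g e)
  have hdouble : T.card * (Fintype.card Ω - 2) =
      (Fintype.card Ω * (Fintype.card Ω - 1)) * k := by
    have h := Finset.sum_card_bipartiteAbove_eq_sum_card_bipartiteBelow (s := T)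
      (t := (Finset.univ : Finset Ω).offDiag) fun (x : G) pq => x • pq.1 = pq.2
    simp only [Finset.bipartiteAbove, Finset.bipartiteBelow] at h
    have hl : ∀ x ∈ T, ((Finset.univ : Finset Ω).offDiag.filter fun pq => x • pq.1 = pq.2).card =
        Fintype.card Ω - 2 := by
      intro x hx
      rw [← hmoved x hx]
      refine Finset.card_bij (fun pq _ => pq.1) ?_ ?_ ?_
      · rintro ⟨p, q⟩ hpq
        simp only [Finset.mem_filter, Finset.mem_offDiag, Finset.mem_univ, true_and] at hpq ⊢
        rw [hpq.2]; exact Ne.symm hpq.1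
      · rintro ⟨p, q⟩ hpq ⟨p', q'⟩ hpq' (rfl : p = p')
        simp only [Finset.mem_filter] at hpq hpq'
        exact Prod.ext rfl (hpq.2.symm.trans hpq'.2)
      · intro p hp
        simp only [Finset.mem_filter, Finset.mem_univ, true_and] at hp
        exact ⟨(p, x • p), by simp [Ne.symm hp], rfl⟩
    rw [Finset.sum_congr rfl hl, Finset.sum_congr rfl fun pq hpq =>
      hpair pq.1 pq.2 (Finset.mem_offDiag.1 hpq).2.2, Finset.sum_const, Finset.sum_const,
      Finset.offDiag_card, Finset.card_univ, smul_eq_mul, smul_eq_mul] at h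
    rw [h, Nat.mul_sub, mul_one]
  set m := Fintype.card Ω - 1 with hm
  have hk2 : 2 * k = m - 1 := by
    have hG : Nat.card G = Fintype.card Ω * m * Nat.card D := by
      rw [← (stabilizer G a).card_mul_index, S.index_stabilizer, S.card_stabilizer hab]
      ring
    rw [hG, ← mul_assoc] at hTcard
    have hT2 := Nat.eq_of_mul_eq_mul_right Nat.card_pos hTcard
    refine Nat.eq_of_mul_eq_mul_left (show 0 < Fintype.card Ω * m from Nat.mul_pos (by omega) (by omega)) ?_
    calc Fintype.card Ω * m * (2 * k) = 2 * (Fintype.card Ω * m * k) := by ring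
      _ = 2 * (T.card * (Fintype.card Ω - 2)) := by rw [hdouble]
      _ = T.card * 2 * (Fintype.card Ω - 2) := by ring
      _ = _ := by rw [hT2, show m - 1 = Fintype.card Ω - 2 by omega]
  -- swapping involutions give elements of `J`
  have hkJ : k + 1 ≤ Nat.card J := by
    have hwT : w ∉ T.filter fun x : G => x • a = b := fun h => by
      obtain ⟨g, hg⟩ := (Finset.mem_filter.1 (Finset.mem_filter.1 h).1).2
      exact hwfree (g • a) (by rw [hg, mul_smul, mul_smul, inv_smul_smul, htD.1])
    rw [hk, ← Finset.card_insert_of_notMem hwT, ← Fintype.card_coe, ← Nat.card_eq_fintype_card]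
    refine Nat.card_le_card_of_injective (fun x => (⟨w * (x : G), ?_⟩ : J)) fun x y e =>
      Subtype.ext (mul_left_cancel (congrArg Subtype.val e))
    have hx : (x : G) * (x : G) = 1 ∧ (x : G) • a = b := by
      rcases Finset.mem_insert.1 x.2 with h | h
      · rw [h]; exact ⟨hw2, hwa⟩
      · exact ⟨hTinv _ (Finset.mem_filter.1 h).1, (Finset.mem_filter.1 h).2⟩
    have hxb : (x : G) • b = a := (congrArg ((x : G) • ·) hx.2.symm).trans
      (show (x : G) • (x : G) • a = a by rw [← mul_smul, hx.1, one_smul])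
    refine ⟨⟨?_, ?_⟩, ?_⟩
    · show (w * (x : G)) • a = a
      rw [mul_smul, hx.2, hwb]
    · show (w * (x : G)) • b = b
      rw [mul_smul, hxb, hwa]
    · rw [mul_inv_rev, hwinv, inv_eq_of_mul_eq_one_right hx.1, ← mul_assoc, hw2, one_mul]
  -- elements with a third fixed point in `J` are trivial
  have hJfree : ∀ d ∈ J, ∀ u ∈ kerF G a, u ≠ 1 → d * u = u * d → d = 1 := by
    intro d hd u hu hu1 hdu
    by_contra hd1
    have hq : d • u • b = u • b := by rw [← mul_smul, hdu, mul_smul, hd.1.2]
    have hqa : u • b ≠ a := (S.isKernel a).smul_ne hu (Ne.symm hab)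
    have hqb : u • b ≠ b := fun e => hu1 (S.kerF_semiregular hab hu e)
    have hc := S.swap_comm hab hd.1 hqa hqb hq hwa hwb
    have h1 := hd.2
    rw [hc, mul_inv_cancel_right] at h1
    have hd2 : orderOf d = 2 := orderOf_eq_prime (by rw [sq]; exact eq_inv_iff_mul_eq_one.1 h1) hd1
    exact (S.fix_two hab hd.1 hd2 hq).elim hqa hqb
  let U := {u : kerF G a // u ≠ 1}
  have hconjmem : ∀ (d : G) (_ : d ∈ D) (u : U),
      (⟨d * ((u.1 : kerF G a) : G) * d⁻¹, (S.isKernel a).norm d (by exact (‹d ∈ D› : d ∈ D).1) _ u.1.2⟩ :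
        kerF G a) ≠ 1 := fun d hd u e => u.2 (Subtype.ext (conj_eq_one_iff.1 (congrArg Subtype.val e)))
  let act : D → U → U := fun d u => ⟨_, hconjmem d d.2 u⟩
  letI : MulAction J U :=
    { smul := fun d u => act ⟨d, d.2.1⟩ u
      one_smul := fun u => Subtype.ext (Subtype.ext (show (1 : G) * _ * (1 : G)⁻¹ = _ by
        rw [one_mul, inv_one, mul_one]))
      mul_smul := fun d e u => Subtype.ext (Subtype.ext (show ((d : G) * e) * _ * ((d : G) * e)⁻¹ =
        (d : G) * ((e : G) * _ * (e : G)⁻¹) * (d : G)⁻¹ by group)) }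
  have hUcard : Nat.card U = m - 1 := by
    haveI := Fintype.ofFinite (kerF G a)
    rw [Nat.card_eq_fintype_card, Fintype.card_subtype_compl, Fintype.card_subtype_eq,
      ← Nat.card_eq_fintype_card, S.kerF_card hab]
  have horb : ∀ u : U, Nat.card (orbit J u) = Nat.card J := fun u => by
    have hst : stabilizer J u = ⊥ := by
      rw [eq_bot_iff]
      intro d hd
      have e : (d : G) * ((u.1 : kerF G a) : G) * (d : G)⁻¹ = ((u.1 : kerF G a) : G) :=
        congrArg (fun z : U => ((z.1 : kerF G a) : G)) hd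
      exact mem_bot.2 (Subtype.ext (hJfree d d.2 _ u.1.2 (fun h => u.2 (Subtype.ext h))
        (mul_inv_eq_iff_eq_mul.1 e)))
    rw [Nat.card_coe_set_eq, ← MulAction.index_stabilizer, hst, index_bot]
  have hJtrans : ∀ u v : U, v ∈ orbit J u := by
    haveI := Fintype.ofFinite (orbitRel.Quotient J U)
    have hsum : Nat.card U = Fintype.card (orbitRel.Quotient J U) * Nat.card J := by
      rw [Nat.card_congr (selfEquivSigmaOrbits' J U), Nat.card_sigma,
        Finset.sum_congr rfl (g := fun _ => Nat.card J), Finset.sum_const, smul_eq_mul, Finset.card_univ]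
      intro ω _
      induction ω using Quotient.inductionOn' with
      | h u => rw [orbitRel.Quotient.orbit_mk]; exact horb u
    intro u v
    have hq : Fintype.card (orbitRel.Quotient J U) ≤ 1 := by
      by_contra hc
      have h2 := Nat.mul_le_mul_right (Nat.card J) (not_le.1 hc : 2 ≤ _)
      omega
    exact Quotient.eq''.1 (Fintype.card_le_one_iff.1 hq (Quotient.mk'' v) (Quotient.mk'' u))
  -- the kernel has prime order
  have hF : Nat.card (kerF G a) = m := S.kerF_card hab
  haveI := S.kerF_cyclic a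
  obtain ⟨⟨g₀, hg₀⟩, hgen⟩ := IsCyclic.exists_generator (α := kerF G a)
  have hg₀o : orderOf g₀ = m := by
    rw [← hF, ← orderOf_eq_card_of_forall_mem_zpowers hgen, orderOf_mk]
  obtain ⟨p, hp, hpm⟩ := Nat.exists_prime_and_dvd (show m ≠ 1 by omega)
  haveI := Fact.mk hp
  obtain ⟨⟨v, hv⟩, hvo⟩ := exists_prime_orderOf_dvd_card' p (hF.symm ▸ hpm)
  rw [orderOf_mk] at hvo
  have hmp : m = p := by
    have hv1 : (⟨v, hv⟩ : kerF G a) ≠ 1 := fun e => by
      have : v = 1 := congrArg Subtype.val e
      rw [this, orderOf_one] at hvo; exact hp.one_lt.ne hvo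
    have hg1 : (⟨g₀, hg₀⟩ : kerF G a) ≠ 1 := fun e => by
      have : g₀ = 1 := congrArg Subtype.val e
      rw [this, orderOf_one] at hg₀o; omega
    obtain ⟨d, hd⟩ := hJtrans ⟨_, hv1⟩ ⟨_, hg1⟩
    have e : (d : G) * v * (d : G)⁻¹ = g₀ := congrArg (fun z : U => ((z.1 : kerF G a) : G)) hd
    rw [← hg₀o, ← hvo, ← e]
    exact orderOf_injective (MulAut.conj (d : G)).toMonoidHom (MulAut.conj (d : G)).injective v
  have hfree : ∀ e ∈ D, ∀ q, q ≠ a → q ≠ b → e • q = q → e = 1 := by
    intro e he q hqa hqb hq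
    obtain ⟨u, hu, -⟩ := (S.isKernel a).reg b q (Ne.symm hab) hqa
    have hc : Commute (u : G) e := S.kerF_comm he.1 u.2 (Ne.symm hab) he.2 (by rw [hu]; exact hq)
    have hu1 : u ≠ 1 := fun e' => hqb (by rw [← hu, e']; exact one_smul _ _)
    have htop : zpowers u = ⊤ :=
      (IsCyclic.exists_generator (α := kerF G a)).elim fun _ _ => eq_top_of_card_eq _ (by
        have hdvd := (zpowers u).card_subgroup_dvd_card
        rw [hF, hmp] at hdvd
        rcases (Nat.dvd_prime hp).1 hdvd with h | h
        · rw [card_eq_one, zpowers_eq_bot] at h; exact absurd h hu1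
        · rw [h, hF, hmp])
    refine S.faithful e fun r => ?_
    by_cases hra : r = a
    · rw [hra]; exact he.1
    obtain ⟨v', hv', -⟩ := (S.isKernel a).reg b r (Ne.symm hab) hra
    obtain ⟨i, hi⟩ := mem_zpowers_iff.1 (htop.ge (mem_top v'))
    have e1 : (u : G) ^ i = v' := congrArg Subtype.val hi
    rw [← hv', ← e1, ← mul_smul, ← (hc.zpow_left i).eq, mul_smul, he.2]
  have hDle : Nat.card D ≤ m - 1 := by
    rw [← hUcard]
    obtain ⟨u₀⟩ : Nonempty U := (Nat.card_pos_iff.1 (by rw [hUcard]; omega)).1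
    refine Nat.card_le_card_of_injective (fun d : D => act d u₀) fun d e h => ?_
    have h1 : (d : G) * ((u₀.1 : kerF G a) : G) * (d : G)⁻¹ = (e : G) * ((u₀.1 : kerF G a) : G) * (e : G)⁻¹ :=
      congrArg (fun z : U => ((z.1 : kerF G a) : G)) h
    have hcm : (e : G)⁻¹ * d * ((u₀.1 : kerF G a) : G) = ((u₀.1 : kerF G a) : G) * ((e : G)⁻¹ * d) := by
      calc (e : G)⁻¹ * d * ((u₀.1 : kerF G a) : G)
          = (e : G)⁻¹ * ((d : G) * ((u₀.1 : kerF G a) : G) * (d : G)⁻¹) * d := by group
        _ = _ := by rw [h1]; group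
    have hu1 : ((u₀.1 : kerF G a) : G) ≠ 1 := fun h' => u₀.2 (Subtype.ext h')
    have hmem : (e : G)⁻¹ * d ∈ D := mul_mem (inv_mem e.2) d.2
    have h2 : (e : G)⁻¹ * d = 1 := hfree _ hmem (((u₀.1 : kerF G a) : G) • b)
      ((S.isKernel a).smul_ne u₀.1.2 (Ne.symm hab))
      (fun e' => hu1 (S.kerF_semiregular hab u₀.1.2 e'))
      (by rw [← mul_smul, hcm, mul_smul, hmem.2])
    exact Subtype.ext (inv_mul_eq_one.1 h2).symm
  have hJle : Nat.card J ≤ Nat.card D := card_le_of_le hJD
  have hUJ : Nat.card U = Nat.card J := by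
    obtain ⟨u₀⟩ : Nonempty U := (Nat.card_pos_iff.1 (by rw [hUcard]; omega)).1
    rw [← horb u₀, Set.eq_univ_of_forall (hJtrans u₀)]
    exact (Nat.card_congr (Equiv.Set.univ U)).symm
  refine ⟨a, b, p, hab, hp, by omega, hF.trans hmp, ?_, hfree⟩
  rw [← hD]; omega

/-- **The primitive case.** -/
theorem Setting.isTarget :
    ∃ p : ℕ, p.Prime ∧ 3 < p ∧ Nonempty (G ≃* Matrix.ProjGenLinGroup (Fin 2) (ZMod p)) := by
  classical
  obtain ⟨a, b, p, hab, hp, hn, hF, hD, hfree⟩ := S.exists_prime_degree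
  haveI := Fact.mk hp
  have C : Zassenhaus.ZCtx G Ω := by
    refine ⟨fun h h' => S.two h h', fun g x y z hxy hyz hxz hgx hgy hgz => ?_⟩
    obtain ⟨h, hx, hy⟩ := S.two hxy hab
    have h1 : h * g * h⁻¹ = 1 := by
      refine hfree _ ⟨?_, ?_⟩ (h • z) (fun e => hxz (MulAction.injective h (hx.trans e.symm)))
        (fun e => hyz (MulAction.injective h (hy.trans e.symm))) ?_
      · show (h * g * h⁻¹) • a = a
        rw [← hx, mul_smul, mul_smul, inv_smul_smul, hgx]
      · show (h * g * h⁻¹) • b = b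
        rw [← hy, mul_smul, mul_smul, inv_smul_smul, hgy]
      · rw [mul_smul, mul_smul, inv_smul_smul, hgz]
    exact conj_eq_one_iff.1 h1
  refine ⟨p, hp, ?_, C.identify_pgl_prime S.three hab (S.isKernel a) hF hD⟩
  by_contra hle
  have hp3 : p = 3 := by
    have := hp.two_le
    obtain ⟨i, hi⟩ := S.even
    omega
  subst hp3
  have hG : Nat.card G = 2 ^ 3 * 3 ^ 1 := by
    rw [← (stabilizer G a).card_mul_index, S.index_stabilizer, S.card_stabilizer hab, hD, hn]
    norm_num
  refine absurd (S.rad ⊤ inferInstance ?_) ?_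
  · haveI := Char.isSolvable_of_card_eq 2 3 Nat.prime_two Nat.prime_three _ G hG ⟨3, 1, hG⟩
    infer_instance
  · intro e
    have := congrArg (fun H : Subgroup G => Nat.card H) e
    simp only [Subgroup.card_top, Subgroup.card_bot, hG] at this
    norm_num at this

end Cfsg.Agent.CyclicZ
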