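import Cfsg.Agent.CyclicZ.Local
import Cfsg.Agent.S3033
import Cfsg.Agent.Core.Ito
import Cfsg.Agent.Invol.ZStar

/-!
The involution of a two-point stabiliser fixes exactly two points: otherwise it would be isolated.
-/

set_option autoImplicit false
set_option linter.style.haveILetI false
set_option linter.unusedSectionVars false

namespace Cfsg.Agent.CyclicZ

open Subgroup MulAction

universe u

theorem involution_unique {G : Type*} [Group G] [Finite G] {K : Subgroup G} (hK : IsCyclic K)
    {u v : G} (hu : u ∈ K) (hv : v ∈ K) (hu2 : orderOf u = 2) (hv2 : orderOf v = 2) : u = v := by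
  haveI := hK
  have hvK : (⟨v, hv⟩ : K) ∈ zpowers (⟨u, hu⟩ : K) := mem_zpowers_of_pow_eq_one (by
    apply Subtype.ext
    show v ^ orderOf (⟨u, hu⟩ : K) = 1
    rw [orderOf_mk, hu2, ← hv2, pow_orderOf_eq_one])
  obtain ⟨i, hi⟩ := mem_zpowers_iff.1 hvK
  have hi' : u ^ i = v := congrArg Subtype.val hi
  have h2 : u ^ (2 : ℤ) = 1 := by
    rw [show (2 : ℤ) = ((2 : ℕ) : ℤ) from rfl, zpow_natCast, ← hu2, pow_orderOf_eq_one]
  rcases Int.even_or_odd i with ⟨l, rfl⟩ | ⟨l, rfl⟩
  · rw [← two_mul, zpow_mul, h2, one_zpow] at hi'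
    rw [← hi', orderOf_one] at hv2; omega
  · rw [zpow_add, zpow_mul, h2, one_zpow, one_mul, zpow_one] at hi'
    exact hi'

theorem zgroup_involution_unique {B : Type*} [Group B] [Finite B] [IsZGroup B] {u v : B}
    (hu : orderOf u = 2) (hv : orderOf v = 2) (huv : u * v = v * u) : u = v := by
  haveI := Fact.mk Nat.prime_two
  let f : zpowers u × zpowers v →* B := (zpowers u).subtype.noncommCoprod (zpowers v).subtype
    fun x y => by
      obtain ⟨i, hi⟩ := mem_zpowers_iff.1 x.2
      obtain ⟨j, hj⟩ := mem_zpowers_iff.1 y.2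
      show Commute (x : B) (y : B)
      rw [← hi, ← hj]
      exact (show Commute u v from huv).zpow_zpow i j
  have hp : IsPGroup 2 f.range := (IsPGroup.of_card (p := 2) (n := 2) (G := zpowers u × zpowers v)
    (by rw [Nat.card_prod, Nat.card_zpowers, Nat.card_zpowers, hu, hv]; rfl)).of_surjective
    f.rangeRestrict f.rangeRestrict_surjective
  refine involution_unique hp.isCyclic_of_isZGroup ?_ ?_ hu hv
  · exact ⟨(⟨u, mem_zpowers u⟩, 1), by simp [f]⟩
  · exact ⟨(1, ⟨v, mem_zpowers v⟩), by simp [f]⟩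

theorem exists_prime_three_mod_four : ∀ y : ℕ, y % 4 = 3 →
    ∃ p, p.Prime ∧ p ∣ y ∧ p % 4 = 3 := by
  intro y
  induction y using Nat.strong_induction_on with
  | _ y ih =>
    intro hy
    have h1 : y ≠ 1 := by omega
    have hp := Nat.minFac_prime h1
    obtain ⟨z, hz⟩ := Nat.minFac_dvd y
    by_cases h : y.minFac % 4 = 3
    · exact ⟨_, hp, Nat.minFac_dvd y, h⟩
    have hodd : y.minFac % 2 = 1 := hp.eq_two_or_odd.resolve_left fun e => by
      rw [e] at hz; omega
    have hp1 : y.minFac % 4 = 1 := by omega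
    have hz3 : z % 4 = 3 := by
      rw [hz, Nat.mul_mod, hp1, one_mul, Nat.mod_mod] at hy; exact hy
    have hzlt : z < y := by
      rw [hz]
      exact lt_mul_of_one_lt_left (by omega) hp.one_lt
    obtain ⟨q, hq, hqz, hq4⟩ := ih z hzlt hz3
    exact ⟨q, hq, hqz.trans (hz ▸ dvd_mul_left _ _), hq4⟩

variable {G : Type u} {Ω : Type*} [Group G] [Finite G] [MulAction G Ω] [Fintype Ω] [DecidableEq Ω]
  {A : Subgroup G} (S : Setting G Ω A)
include S

/-- An odd-order normal subgroup is trivial. -/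
theorem Setting.eq_bot_of_odd (K : Subgroup G) [K.Normal] (hK : ¬ 2 ∣ Nat.card K) : K = ⊥ := by
  by_contra hne
  obtain ⟨u, hu, hu1⟩ : ∃ u ∈ K, u ≠ 1 := by
    by_contra hc
    push Not at hc
    exact hne (eq_bot_iff.2 fun x hx => mem_bot.2 (hc x hx))
  obtain ⟨p, hp⟩ : ∃ p : Ω, u • p ≠ p := by
    by_contra hc
    push Not at hc
    exact hu1 (S.faithful u hc)
  have htr : ∀ r : Ω, ∃ k : K, k • p = r := by
    intro r
    by_cases hr : r = p
    · exact ⟨1, by rw [one_smul, hr]⟩
    obtain ⟨g, hg1, hg2⟩ := S.two (Ne.symm hp) (Ne.symm hr)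
    refine ⟨⟨g * u * g⁻¹, Normal.conj_mem inferInstance u hu g⟩, ?_⟩
    show (g * u * g⁻¹) • p = r
    rw [mul_smul, mul_smul, inv_smul_eq_iff.2 hg1.symm, hg2]
  have h1 := (stabilizer K p).index_mul_card
  have h2 : (stabilizer K p).index = Fintype.card Ω := by
    rw [MulAction.index_stabilizer, ← Nat.card_eq_fintype_card, ← Set.ncard_univ]
    congr 1
    exact Set.eq_univ_of_forall htr
  exact hK (by rw [← h1, h2]; exact dvd_mul_of_dvd_left S.even.two_dvd _)

/-- Commuting conjugates of an involution fixing points have no common fixed point. -/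
theorem Setting.no_common_fix {s t : G} (hs : orderOf s = 2) (ht : orderOf t = 2)
    (hst : s * t = t * s) (hne : s ≠ t) {p : Ω} (hsp : s • p = p) (htp : t • p = p) : False := by
  haveI := S.zgroup p
  refine hne (congrArg Subtype.val (zgroup_involution_unique (u := (⟨s, hsp⟩ : stabilizer G p))
    (v := ⟨t, htp⟩) ?_ ?_ (Subtype.ext hst)))
  · rw [← orderOf_coe]; exact hs
  · rw [← orderOf_coe]; exact ht

/-- A conjugate of `t` commuting with `t` and with the involution of the cyclic part is `t`. -/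
theorem Setting.eq_of_comm_u {a : Ω} {t d : G} {D : Subgroup G} {P : Sylow 2 G} {X Y : Subgroup G}
    (hL : LocalData G Ω D a d P X Y) (ht : orderOf t = 2) (hta : t • a = a)
    (htP : ∀ z ∈ (P : Subgroup G), z * t = t * z) {u : G} (huX : u ∈ X) (hu : orderOf u = 2)
    {s g : G} (hs : s = g * t * g⁻¹) (hst : s * t = t * s) (hsu : s * u = u * s) : s = t := by
  classical
  haveI := Fact.mk Nat.prime_two
  obtain ⟨K, hXK, hKc, hKcard, hKtr⟩ := hL.X_sup
  haveI := hKc
  letI := IsCyclic.commGroup (α := K)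
  have hut : u * t = t * u := htP u (hL.X_le huX)
  have hu1 : ∀ p : Ω, u • p ≠ p := fun p e => by
    rw [hL.X_free u huX p e, orderOf_one] at hu; omega
  set H := centralizer ({u} : Set G) with hH
  have hKH : K ≤ H := fun k hk => mem_centralizer_singleton_iff.2
    (congrArg Subtype.val (mul_comm (⟨k, hk⟩ : K) ⟨u, hXK huX⟩))
  have htH : t ∈ H := mem_centralizer_singleton_iff.2 hut.symm
  have hsH : s ∈ H := mem_centralizer_singleton_iff.2 hsu
  -- transport `t` to `s` inside `H`
  obtain ⟨k, hk, hka⟩ := hKtr a (g • a)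
  have hcomm : ∀ z : G, z ∈ H → ∀ p : Ω, u • z • p = z • u • p := fun z hz p => by
    rw [← mul_smul, ← mem_centralizer_singleton_iff.1 hz, mul_smul]
  have hskt : s = k * t * k⁻¹ := by
    have hsga : s • g • a = g • a := by rw [hs, mul_smul, mul_smul, inv_smul_smul, hta]
    have hsk : (k * t * k⁻¹) • g • a = g • a := by
      rw [← hka, mul_smul, mul_smul, inv_smul_smul, hta]
    refine involution_unique (S.twoPt_cyclic (hu1 (g • a)).symm) ⟨hsga, ?_⟩ ⟨hsk, ?_⟩ ?_ ?_
    · show s • u • g • a = u • g • a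
      rw [← hcomm s hsH, hsga]
    · show (k * t * k⁻¹) • u • g • a = u • g • a
      rw [← hcomm _ (mul_mem (mul_mem (hKH hk) htH) (inv_mem (hKH hk))), hsk]
    · rw [hs, ← ht]; exact orderOf_injective (MulAut.conj g).toMonoidHom (MulAut.conj g).injective t
    · rw [← ht]; exact orderOf_injective (MulAut.conj k).toMonoidHom (MulAut.conj k).injective t
  -- reduce to an odd element
  obtain ⟨j, hj, hnj⟩ := hL.X_card
  obtain ⟨e, he⟩ := (P.2.to_le hL.X_le).exists_card_eq
  have hco : IsCoprime (Nat.card X : ℤ) (j : ℤ) := by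
    rw [he]; push_cast
    refine IsCoprime.pow_left ?_
    obtain ⟨i, rfl⟩ := hj
    exact ⟨-i, 1, by push_cast; ring⟩
  obtain ⟨α, β, hαβ⟩ := hco
  have hkn : k ^ (Nat.card X * j) = 1 := by
    rw [← hnj, ← hKcard]
    exact congrArg Subtype.val (pow_card_eq_one' (x := (⟨k, hk⟩ : K)))
  set o := k ^ (α * (Nat.card X : ℤ)) with ho
  set x := k ^ (β * (j : ℤ)) with hx
  have hox : k = o * x := by rw [ho, hx, ← zpow_add, hαβ, zpow_one]
  have ho_odd : Odd (orderOf o) := by
    refine Odd.of_dvd_nat hj (orderOf_dvd_of_pow_eq_one ?_)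
    rw [ho, ← zpow_natCast, ← zpow_mul, mul_assoc, mul_comm α, zpow_mul, ← Nat.cast_mul, zpow_natCast,
      hkn, one_zpow]
  have hxX : x ∈ X := by
    haveI := hL.X_cyclic
    have hxK : x ∈ K := zpow_mem hk _
    obtain ⟨⟨z, hz⟩, hzgen⟩ := IsCyclic.exists_generator (α := X)
    have hzo : orderOf z = Nat.card X := by
      rw [← orderOf_eq_card_of_forall_mem_zpowers hzgen, orderOf_mk]
    have h1 : (⟨x, hxK⟩ : K) ∈ zpowers (⟨z, hXK hz⟩ : K) := mem_zpowers_of_pow_eq_one (by
      apply Subtype.ext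
      show x ^ orderOf (⟨z, hXK hz⟩ : K) = 1
      rw [orderOf_mk, hzo, hx, ← zpow_natCast, ← zpow_mul, mul_assoc, mul_comm β, zpow_mul,
        mul_comm (j : ℤ), ← Nat.cast_mul, zpow_natCast, hkn, one_zpow])
    obtain ⟨i, hi⟩ := mem_zpowers_iff.1 h1
    rw [← show z ^ i = x from congrArg Subtype.val hi]
    exact zpow_mem hz i
  have hsot : s = o * t * o⁻¹ := by
    rw [hskt, hox, show o * x * t * (o * x)⁻¹ = o * (x * t * x⁻¹) * o⁻¹ by group,
      htP x (hL.X_le hxX), mul_inv_cancel_right]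
  -- `H` is a product of two cyclic groups
  have hHa : ∀ z ∈ H, z • a = a → z ∈ Zassenhaus.twoPt G a (u • a) := fun z hz hza =>
    ⟨hza, by show z • u • a = u • a; rw [← hcomm z hz, hza]⟩
  haveI : IsCyclic (K.subgroupOf H) := isCyclic_of_injective
    (subgroupOfEquivOfLe hKH).toMonoidHom (MulEquiv.injective _)
  haveI : IsCyclic ((stabilizer G a).subgroupOf H) := by
    haveI := S.twoPt_cyclic (hu1 a).symm
    refine isCyclic_of_injective ((H.subtype.comp ((stabilizer G a).subgroupOf H).subtype).codRestrict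
      (Zassenhaus.twoPt G a (u • a)) fun z => hHa _ z.1.2 z.2) fun z w e => ?_
    exact Subtype.ext (Subtype.ext (congrArg (fun q : Zassenhaus.twoPt G a (u • a) => (q : G)) e))
  have hss : Cfsg.IsSupersolvable H := Core.isSupersolvable_of_cyclic_product _ H rfl (K.subgroupOf H)
    ((stabilizer G a).subgroupOf H) inferInstance inferInstance fun z => by
      obtain ⟨w, hw, hwa⟩ := hKtr a ((z : G) • a)
      exact ⟨⟨w, hKH hw⟩, hw, (⟨w, hKH hw⟩ : H)⁻¹ * z, by
        show (w⁻¹ * (z : G)) • a = a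
        rw [mul_smul, ← hwa, inv_smul_smul], (mul_inv_cancel_left _ _).symm⟩
  obtain ⟨Q, N, hN, hNQ⟩ := S3033.hasNormalPComplement_of_isSupersolvable _ H rfl hss 2
    fun q hq _ => hq.two_le
  haveI := hN
  have hoH : o ∈ H := zpow_mem (hKH hk) _
  have hoN : (⟨o, hoH⟩ : H) ∈ N := by
    rw [← QuotientGroup.eq_one_iff, ← orderOf_eq_one_iff]
    obtain ⟨l, hl⟩ := Q.2.exists_card_eq
    refine Nat.eq_one_of_dvd_coprimes (a := orderOf o) (b := 2 ^ l) ?_ ?_ ?_
    · exact Nat.Coprime.pow_right l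
        ((Nat.coprime_comm).1 (Nat.prime_two.coprime_iff_not_dvd.2 fun h =>
          Nat.not_even_iff_odd.2 ho_odd (even_iff_two_dvd.2 h)))
    · exact (orderOf_map_dvd (QuotientGroup.mk' N) _).trans (by rw [orderOf_mk])
    · have hidx : N.index = Nat.card Q :=
        Nat.eq_of_mul_eq_mul_left (Nat.card_pos (α := N)) (N.card_mul_index.trans hNQ.card_mul.symm)
      rw [← hl, ← hidx, index_eq_card]
      exact orderOf_dvd_natCard _
  have hc : (⟨o, hoH⟩ : H) * ⟨t, htH⟩ * (⟨o, hoH⟩ : H)⁻¹ * (⟨t, htH⟩ : H)⁻¹ ∈ N := by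
    rw [show (⟨o, hoH⟩ : H) * ⟨t, htH⟩ * (⟨o, hoH⟩ : H)⁻¹ * (⟨t, htH⟩ : H)⁻¹ =
      ⟨o, hoH⟩ * (⟨t, htH⟩ * (⟨o, hoH⟩ : H)⁻¹ * (⟨t, htH⟩ : H)⁻¹) by group]
    exact N.mul_mem hoN (hN.conj_mem _ (N.inv_mem hoN) _)
  have hNodd : ¬ 2 ∣ Nat.card N := by
    intro h
    have h1 := hNQ.card_mul
    have h2 := (Q : Subgroup H).card_mul_index
    rw [← h1, mul_comm (Nat.card N)] at h2
    exact Q.not_dvd_index (Nat.eq_of_mul_eq_mul_left Nat.card_pos h2 ▸ h)
  have ht2 : t⁻¹ = t := inv_eq_of_mul_eq_one_right (by rw [← sq, ← ht, pow_orderOf_eq_one])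
  have hst1 : (s * t⁻¹) ^ 2 = 1 := by
    have hsq : s * s = 1 := by
      rw [hs, show g * t * g⁻¹ * (g * t * g⁻¹) = g * (t * t) * g⁻¹ by group, ← sq, ← ht,
        pow_orderOf_eq_one, mul_one, mul_inv_cancel]
    rw [ht2, sq, show s * t * (s * t) = s * (t * s) * t by group, ← hst,
      show s * (s * t) * t = s * s * (t * t) by group, hsq, ← sq, ← ht, pow_orderOf_eq_one, one_mul]
  have h1 : orderOf (s * t⁻¹) ∣ Nat.card N := by
    have hmem : (⟨s, hsH⟩ * (⟨t, htH⟩ : H)⁻¹ : H) ∈ N := by
      have : (⟨s, hsH⟩ : H) = ⟨o, hoH⟩ * ⟨t, htH⟩ * (⟨o, hoH⟩ : H)⁻¹ := Subtype.ext hsot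
      rw [this]; exact hc
    have := Subgroup.orderOf_dvd_natCard N hmem
    rwa [← orderOf_coe] at this
  have h2 : orderOf (s * t⁻¹) = 1 := by
    rcases (Nat.dvd_prime Nat.prime_two).1 (orderOf_dvd_of_pow_eq_one hst1) with h | h
    · exact h
    · exact absurd (h ▸ h1) hNodd
  rw [orderOf_eq_one_iff, mul_inv_eq_one] at h2
  exact h2

/-- The parity of a commuting conjugate forces the degree to be divisible by 4. -/
theorem Setting.four_dvd {a b : Ω} {t : G} (ht : orderOf t = 2) (hab : a ≠ b)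
    (htD : t ∈ Zassenhaus.twoPt G a b)
    (hpsi : ∀ g : centralizer ({t} : Set G), sgn G Ω (g : G) = sgnFix Ω t g) {g : G}
    (hst : g * t * g⁻¹ * t = t * (g * t * g⁻¹)) (hne : g * t * g⁻¹ ≠ t) :
    4 ∣ Fintype.card Ω := by
  classical
  set s := g * t * g⁻¹ with hs
  have hso : orderOf s = 2 := by
    rw [hs, ← ht]; exact orderOf_injective (MulAut.conj g).toMonoidHom (MulAut.conj g).injective t
  have hsC : s ∈ centralizer ({t} : Set G) := mem_centralizer_singleton_iff.2 hst
  have ht2 : MulAction.toPermHom G Ω t ^ 2 = 1 := by rw [← map_pow, ← ht, pow_orderOf_eq_one, map_one]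
  have hs2 : fixHom Ω t ⟨s, hsC⟩ ^ 2 = 1 := by
    rw [← map_pow, show (⟨s, hsC⟩ : centralizer ({t} : Set G)) ^ 2 = 1 from
      Subtype.ext (by show s ^ 2 = 1; rw [← hso, pow_orderOf_eq_one]), map_one]
  haveI : IsEmpty (Function.fixedPoints (fixHom Ω t ⟨s, hsC⟩)) := ⟨fun p =>
    S.no_common_fix hso ht hst hne (congrArg Subtype.val p.2 : s • (p.1 : Ω) = p.1) p.1.2⟩
  have e1 : sgn G Ω s = sgn G Ω t := by
    rw [hs, map_mul, map_mul, map_inv, mul_comm, inv_mul_cancel_left]
  have e2 : sgn G Ω s = sgnFix Ω t ⟨s, hsC⟩ := hpsi ⟨s, hsC⟩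
  have e3 : sgnFix Ω t ⟨s, hsC⟩ = (-1) ^ (Fintype.card {p : Ω // t • p = p} / 2) := by
    show Equiv.Perm.sign (fixHom Ω t ⟨s, hsC⟩) = _
    rw [Equiv.Perm.sign_of_pow_two_eq_one hs2,
      Fintype.card_eq_zero (α := Function.fixedPoints (fixHom Ω t ⟨s, hsC⟩)), Nat.sub_zero]
  have e4 : sgn G Ω t =
      (-1) ^ ((Fintype.card Ω - Fintype.card {p : Ω // t • p = p}) / 2) := by
    show Equiv.Perm.sign (MulAction.toPermHom G Ω t) = _
    rw [Equiv.Perm.sign_of_pow_two_eq_one ht2]
    congr 3
  rw [e1, e4, e3] at e2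
  have hle : Fintype.card {p : Ω // t • p = p} ≤ Fintype.card Ω := Fintype.card_subtype_le _
  obtain ⟨i, hi⟩ := S.even
  obtain ⟨j, hj⟩ := S.even_fix hab htD
  rw [show (Fintype.card Ω - Fintype.card {p : Ω // t • p = p}) / 2 = i - j by omega,
    show Fintype.card {p : Ω // t • p = p} / 2 = j by omega] at e2
  rcases Nat.even_or_odd (i - j) with h | h <;> rcases Nat.even_or_odd j with h' | h' <;>
    rw [h.neg_one_pow, h'.neg_one_pow] at e2
  · obtain ⟨x, hx⟩ := h; obtain ⟨y, hy⟩ := h'
    exact ⟨x + y, by omega⟩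
  · exact absurd e2 (by decide)
  · exact absurd e2 (by decide)
  · obtain ⟨x, hx⟩ := h; obtain ⟨y, hy⟩ := h'
    exact ⟨x + y + 1, by omega⟩

/-- A Sylow 2-subgroup centralising `t` and a root of `t` contains no other commuting conjugate. -/
theorem Setting.eq_of_mem_sylow {a b : Ω} (hab : a ≠ b) {t d : G} {P : Sylow 2 G}
    {X Y : Subgroup G} (hL : LocalData G Ω (Zassenhaus.twoPt G a b) a d P X Y) (ht : orderOf t = 2)
    (htD : t ∈ Zassenhaus.twoPt G a b) (htY : t ∈ Y) (h4 : 4 ∣ Fintype.card Ω)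
    (htP : ∀ z ∈ (P : Subgroup G), z * t = t * z)
    (hd : 8 ≤ Nat.card Y → d ∈ Y ∧ d * d = t) {s g : G} (hsP : s ∈ (P : Subgroup G))
    (hs : s = g * t * g⁻¹) : s = t := by
  classical
  haveI := Fact.mk Nat.prime_two
  by_contra hne
  haveI := hL.X_cyclic
  obtain ⟨⟨z, hz⟩, hzgen⟩ := IsCyclic.exists_generator (α := X)
  have hzo : orderOf z = Nat.card X := by
    rw [← orderOf_eq_card_of_forall_mem_zpowers hzgen, orderOf_mk]
  obtain ⟨j, hj, hnj⟩ := hL.X_card
  have h4X : 4 ∣ Nat.card X := by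
    have hc : Nat.Coprime 4 j := by
      rw [show (4 : ℕ) = 2 ^ 2 by rfl]
      exact Nat.Coprime.pow_left 2 (Nat.prime_two.coprime_iff_not_dvd.2 fun h =>
        Nat.not_even_iff_odd.2 hj (even_iff_two_dvd.2 h))
    rw [Nat.card_eq_fintype_card] at hnj
    exact hc.dvd_of_dvd_mul_right (hnj ▸ h4)
  obtain ⟨i, hi⟩ := h4X
  have hi0 : 0 < i := by
    rcases Nat.eq_zero_or_pos i with h | h
    · subst h; have := Nat.card_pos (α := X); omega
    · exact h
  set v := z ^ i with hv
  have hvX : v ∈ X := pow_mem hz i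
  set u := v * v with hu
  have huX : u ∈ X := mul_mem hvX hvX
  have hu_pow : u = z ^ (i * 2) := by rw [hu, hv, ← pow_add, mul_two]
  have hu2 : orderOf u = 2 := by
    rw [hu_pow]
    refine orderOf_eq_prime ?_ ?_
    · rw [← pow_mul, show i * 2 * 2 = 4 * i by ring, ← hi, ← hzo, pow_orderOf_eq_one]
    · refine pow_ne_one_of_lt_orderOf (by omega) ?_
      rw [hzo, hi]; omega
  have hsu : s * u ≠ u * s := fun e => hne (S.eq_of_comm_u hL ht htD.1 htP huX hu2 hs (htP s hsP) e)
  -- a generator of `Y`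
  haveI : IsCyclic Y := by
    haveI := S.twoPt_cyclic hab
    exact isCyclic_of_injective (inclusion hL.Y_le') (inclusion_injective _)
  obtain ⟨⟨c, hc⟩, hcgen⟩ := IsCyclic.exists_generator (α := Y)
  have hco : orderOf c = Nat.card Y := by
    rw [← orderOf_eq_card_of_forall_mem_zpowers hcgen, orderOf_mk]
  have hcpow : ∀ y ∈ Y, ∃ l : ℤ, c ^ l = y := fun y hy => by
    obtain ⟨l, hl⟩ := mem_zpowers_iff.1 (hcgen ⟨y, hy⟩)
    exact ⟨l, congrArg Subtype.val hl⟩
  obtain ⟨e, he⟩ := (P.2.to_le hL.Y_le).exists_card_eq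
  letI := IsCyclic.commGroup (α := X)
  have hXu : ∀ x ∈ X, x * u = u * x := fun x hx =>
    congrArg Subtype.val (mul_comm (⟨x, hx⟩ : X) ⟨u, huX⟩)
  have hout : c * u ≠ u * c := by
    intro e'
    obtain ⟨x, hx, y, hy, rfl⟩ := hL.factor s hsP
    obtain ⟨l, rfl⟩ := hcpow y hy
    exact hsu ((show Commute x u from hXu x hx).mul_left ((show Commute c u from e').zpow_left l))
  have hut : t * u = u * t := (htP u (hL.X_le huX)).symm
  -- the square of the generator centralises `u`
  have hc2 : c * c * u = u * (c * c) := by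
    rcases Nat.lt_or_ge (Nat.card Y) 8 with hlt | hge
    · have hcc : c * c = 1 ∨ c * c = t := by
        by_cases h : c * c = 1
        · exact Or.inl h
        refine Or.inr (involution_unique (inferInstance : IsCyclic Y) (mul_mem hc hc) htY ?_ ht)
        refine orderOf_eq_prime ?_ h
        have he3 : e < 3 := by
          by_contra hh
          have := Nat.pow_le_pow_right (show 0 < 2 by norm_num) (not_lt.1 hh)
          omega
        rw [← sq, ← pow_mul, show c ^ (2 * 2) = (c ^ 2 ^ e) ^ 2 ^ (2 - e) by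
          rw [← pow_mul, ← pow_add, Nat.add_sub_cancel' (by omega)]; rfl,
          ← he, ← hco, pow_orderOf_eq_one, one_pow]
      rcases hcc with h | h <;> rw [h]
      · rw [one_mul, mul_one]
      · exact hut
    · obtain ⟨hdY, hdd⟩ := hd hge
      obtain ⟨Pn, hPn⟩ : ∃ x ∈ X, x ≠ 1 ∧ ∀ y ∈ Y, x * y * x⁻¹ ∈ Y := by
        haveI : Group.IsNilpotent (P : Subgroup G) := P.2.isNilpotent
        have hlt : Y.subgroupOf (P : Subgroup G) < ⊤ := by
          refine lt_top_iff_ne_top.2 fun h => ?_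
          have huY : u ∈ Y := subgroupOf_eq_top.1 h (hL.X_le huX)
          have := hL.X_free u huX a (hL.Y_le' huY).1
          rw [this, orderOf_one] at hu2
          omega
        obtain ⟨w, hwN, hwY⟩ := SetLike.exists_of_lt (normalizerCondition_of_isNilpotent _ hlt)
        obtain ⟨x, hx, y, hy, hw⟩ := hL.factor w w.2
        refine ⟨x, hx, fun h1 => hwY ?_, fun y' hy' => ?_⟩
        · show (w : G) ∈ Y
          rw [hw, h1, one_mul]; exact hy
        · have hy'' : y⁻¹ * y' * y ∈ Y := mul_mem (mul_mem (inv_mem hy) hy') hy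
          have := (mem_normalizer_iff.1 hwN (⟨_, hL.Y_le hy''⟩ : (P : Subgroup G))).1 hy''
          have h' : (w : G) * (y⁻¹ * y' * y) * (w : G)⁻¹ ∈ Y := this
          rwa [hw, show x * y * (y⁻¹ * y' * y) * (x * y)⁻¹ = x * y' * x⁻¹ by group] at h'
      obtain ⟨hx, hx1, hxY⟩ := hPn
      have hNY : ∀ (w : G), (∀ y ∈ Y, w * y * w⁻¹ ∈ Y) → w ∈ normalizer (Y : Set G) := fun w hw => by
        rw [mem_normalizer_iff]
        have heq := eq_of_le_of_card_ge (H := Y.map (MulAut.conj w).toMonoidHom) (K := Y)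
          (by rintro _ ⟨y, hy, rfl⟩; exact hw y hy)
          (by rw [card_map_of_injective (MulAut.conj w).injective])
        intro n
        constructor
        · exact hw n
        · intro hn
          obtain ⟨m, hm, e'⟩ := heq.ge hn
          have e'' : w * m * w⁻¹ = w * n * w⁻¹ := e'
          exact (mul_left_cancel (mul_right_cancel e'')) ▸ hm
      have hxN := hNY Pn hxY
      have hux : u ∈ zpowers Pn := by
        obtain ⟨eX, heX⟩ := (P.2.to_le hL.X_le).exists_card_eq
        obtain ⟨f, -, hf⟩ := (Nat.dvd_prime_pow Nat.prime_two).1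
          (heX ▸ Subgroup.orderOf_dvd_natCard X hx)
        have hf0 : 0 < f := by
          rcases Nat.eq_zero_or_pos f with h | h
          · rw [h, pow_zero, orderOf_eq_one_iff] at hf; exact absurd hf hx1
          · exact h
        have : orderOf (Pn ^ 2 ^ (f - 1)) = 2 := by
          refine orderOf_eq_prime ?_ ?_
          · rw [← pow_mul, ← pow_succ, Nat.sub_add_cancel hf0, ← hf, pow_orderOf_eq_one]
          · refine pow_ne_one_of_lt_orderOf (by positivity) ?_
            rw [hf]; exact Nat.pow_lt_pow_right (by norm_num) (by omega)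
        rw [involution_unique hL.X_cyclic huX (pow_mem hx _) hu2 this]
        exact pow_mem (mem_zpowers Pn) _
      have huN : u ∈ normalizer (Y : Set G) := zpowers_le.2 hxN hux
      obtain ⟨r, hr⟩ := hcpow _ ((mem_normalizer_iff.1 huN c).1 hc)
      -- `u` fixes the element of order 4
      have hud : u * d = d * u :=
        mem_centralizer_singleton_iff.1 (hL.le_cent (hL.X_le huX))
      obtain ⟨m, hm⟩ := hcpow d hdY
      have hd4 : c ^ ((r - 1) * m) = 1 := by
        have h1 : u * c ^ m * u⁻¹ = c ^ (r * m) := by rw [← conj_zpow, ← hr, zpow_mul]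
        rw [hm, hud, mul_inv_cancel_right] at h1
        rw [sub_mul, one_mul, zpow_sub, ← h1, hm, mul_inv_cancel]
      have hYe : (orderOf c : ℤ) = 2 ^ e := by rw [hco, he]; push_cast; rfl
      have he3 : 3 ≤ e := by
        by_contra hh
        have := Nat.pow_le_pow_right (show 0 < 2 by norm_num) (show e ≤ 2 by omega)
        omega
      have hm2 : (2 : ℤ) ^ e ∣ 4 * m ∧ ¬ (2 : ℤ) ^ e ∣ 2 * m := by
        have htt : t * t = 1 := by rw [← sq, ← ht, pow_orderOf_eq_one]
        rw [← hYe, orderOf_dvd_iff_zpow_eq_one, orderOf_dvd_iff_zpow_eq_one,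
          show (4 : ℤ) * m = m + m + (m + m) by ring, show (2 : ℤ) * m = m + m by ring,
          zpow_add, zpow_add, hm, hdd]
        exact ⟨htt, fun h => by rw [h, orderOf_one] at ht; omega⟩
      obtain ⟨q, hq, hq'⟩ : ∃ q : ℤ, m = 2 ^ (e - 2) * q ∧ ¬ 2 ∣ q := by
        obtain ⟨w, hw⟩ := hm2.1
        have h2e : (2 : ℤ) ^ e = 4 * 2 ^ (e - 2) := by
          rw [show (4 : ℤ) = 2 ^ 2 by norm_num, ← pow_add]; congr 1; omega
        rw [h2e, mul_assoc] at hw
        refine ⟨w, by linarith, fun hdw => hm2.2 ?_⟩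
        obtain ⟨w', rfl⟩ := hdw
        exact ⟨w', by rw [h2e]; linarith⟩
      have h4r : (4 : ℤ) ∣ r - 1 := by
        have h1 : (2 : ℤ) ^ e ∣ (r - 1) * m := by
          rw [← hYe, orderOf_dvd_iff_zpow_eq_one]; exact hd4
        rw [show (2 : ℤ) ^ e = 4 * 2 ^ (e - 2) by
          rw [show (4 : ℤ) = 2 ^ 2 by norm_num, ← pow_add]; congr 1; omega, hq,
          show (r - 1) * (2 ^ (e - 2) * q) = (r - 1) * q * 2 ^ (e - 2) by ring] at h1
        have h2 := Int.dvd_of_mul_dvd_mul_right (by positivity) h1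
        refine (IsCoprime.dvd_of_dvd_mul_right ?_ h2)
        rw [show (4 : ℤ) = 2 ^ 2 by norm_num]
        exact IsCoprime.pow_left ((Int.prime_two.coprime_iff_not_dvd).2 hq')
      have hrr : c ^ (r * r - 1) = 1 := by
        have h1 : u * c ^ r * u⁻¹ = c ^ (r * r) := by rw [← conj_zpow, ← hr, zpow_mul]
        rw [hr, show u * (u * c * u⁻¹) * u⁻¹ = u * u * c * (u * u)⁻¹ by group,
          show u * u = 1 by rw [← sq, ← hu2, pow_orderOf_eq_one], one_mul, inv_one, mul_one] at h1
        rw [zpow_sub, zpow_one, ← h1, mul_inv_cancel]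
      have h2r : (2 : ℤ) ^ e ∣ 2 * (r - 1) := by
        obtain ⟨k, hk⟩ := h4r
        have h1 : (2 : ℤ) ^ e ∣ (r - 1) * 2 * (2 * k + 1) := by
          rw [← hYe, orderOf_dvd_iff_zpow_eq_one,
            show (r - 1) * 2 * (2 * k + 1) = r * r - 1 by
              rw [show r = 4 * k + 1 by linarith]; ring]
          exact hrr
        rw [mul_comm 2]
        refine IsCoprime.dvd_of_dvd_mul_right ?_ h1
        exact IsCoprime.pow_left ⟨-k, 1, by ring⟩
      have h3 : u * (c * c) * u⁻¹ = c * c := by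
        rw [show u * (c * c) * u⁻¹ = (u * c * u⁻¹) * (u * c * u⁻¹) by group, ← hr, ← zpow_add]
        have : c ^ (2 * (r - 1)) = 1 := by rw [← orderOf_dvd_iff_zpow_eq_one, hYe]; exact h2r
        rw [show r + r = 2 * (r - 1) + 1 + 1 by ring, zpow_add, zpow_add, this, one_mul, zpow_one]
      rw [mul_inv_eq_iff_eq_mul] at h3
      exact h3.symm
  -- the centraliser of `u` in the Sylow subgroup has index two
  set Q : Subgroup (P : Subgroup G) := (centralizer ({u} : Set G)).subgroupOf (P : Subgroup G) with hQ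
  have hQmem : ∀ w : (P : Subgroup G), w ∈ Q ↔ (w : G) * u = u * w := fun w =>
    mem_subgroupOf.trans mem_centralizer_singleton_iff
  have hQ2 : Q.index = 2 := by
    refine index_eq_two_iff.2 ⟨⟨c, hL.Y_le hc⟩, fun w => ?_⟩
    have key : ∀ (l : ℤ), (c ^ l * u = u * c ^ l) ↔ Even l := fun l => by
      rcases Int.even_or_odd l with ⟨k, rfl⟩ | ⟨k, rfl⟩
      · simp only [Even.add_self, iff_true]
        rw [zpow_add, ← (Commute.refl c).mul_zpow]
        exact (show Commute (c * c) u from hc2).zpow_left k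
      · refine iff_of_false (fun h => hout ?_) (Int.not_even_iff_odd.2 ⟨k, rfl⟩)
        have h1 : Commute ((c * c) ^ k) u := (show Commute (c * c) u from hc2).zpow_left k
        rw [zpow_add, zpow_one, two_mul, zpow_add, ← (Commute.refl c).mul_zpow] at h
        have h2 := h1.inv_left.mul_left (show Commute ((c * c) ^ k * c) u from h)
        rwa [inv_mul_cancel_left] at h2
    obtain ⟨x, hx, y, hy, hw⟩ := hL.factor w w.2
    obtain ⟨l, hl⟩ := hcpow y hy
    have hxc : Commute x u := hXu x hx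
    rw [hQmem, hQmem]
    push_cast
    rw [hw, ← hl, show x * c ^ l * c = x * c ^ (l + 1) by rw [zpow_add, zpow_one, mul_assoc]]
    have e1 : ∀ l' : ℤ, (x * c ^ l' * u = u * (x * c ^ l')) ↔ Even l' := fun l' => by
      rw [← key]
      constructor
      · intro h
        have := hxc.inv_left.mul_left (show Commute (x * c ^ l') u from h)
        rwa [inv_mul_cancel_left] at this
      · intro h; exact hxc.mul_left (show Commute (c ^ l') u from h)
    rw [e1, e1, Int.even_add_one]
    tauto
  haveI := normal_of_index_eq_two hQ2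
  have hsq : ∀ w ∈ (P : Subgroup G), w * w * u = u * (w * w) := fun w hw =>
    (hQmem (⟨w, hw⟩ * ⟨w, hw⟩)).1 (mul_self_mem_of_index_two hQ2 _)
  rcases Nat.lt_or_ge (Nat.card Y) 8 with hlt | hge
  · -- conjugation by the generator fixes `u`
    refine hout ?_
    have hvQ : (⟨v, hL.X_le hvX⟩ : (P : Subgroup G)) ∈ Q := (hQmem _).2 (hXu v hvX)
    have hw := Normal.conj_mem inferInstance _ hvQ (⟨c, hL.Y_le hc⟩ : (P : Subgroup G))
    rw [hQmem] at hw
    push_cast at hw
    obtain ⟨x, hx, y, hy, hxy⟩ := hL.factor (c * v * c⁻¹)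
      (mul_mem (mul_mem (hL.Y_le hc) (hL.X_le hvX)) (inv_mem (hL.Y_le hc)))
    rw [hxy] at hw
    have hyu : Commute y u := by
      have := (show Commute x u from hXu x hx).inv_left.mul_left (show Commute (x * y) u from hw)
      rwa [inv_mul_cancel_left] at this
    have hy2 : y * y = 1 := by
      by_contra h
      have hyo : orderOf y = Nat.card Y := by
        obtain ⟨f, -, hf⟩ := (Nat.dvd_prime_pow Nat.prime_two).1
          (he ▸ Subgroup.orderOf_dvd_natCard Y hy)
        have hfe : f ≤ e := (Nat.pow_dvd_pow_iff_le_right (by norm_num)).1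
          (hf ▸ he ▸ Subgroup.orderOf_dvd_natCard Y hy)
        have he3 : e < 3 := by
          by_contra hh
          have := Nat.pow_le_pow_right (show 0 < 2 by norm_num) (not_lt.1 hh)
          omega
        rcases Nat.lt_or_ge f 2 with hf2 | hf2
        · exfalso
          apply h
          rw [← sq, ← orderOf_dvd_iff_pow_eq_one, hf]
          exact (Nat.pow_dvd_pow 2 (show f ≤ 1 by omega)).trans (by norm_num)
        · rw [hf, he, show f = e by omega]
      have hcy : c ∈ zpowers y := by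
        have h1 : zpowers y = Y := eq_of_le_of_card_ge (zpowers_le.2 hy)
          (le_of_eq (by rw [Nat.card_zpowers, hyo]))
        rw [h1]; exact hc
      obtain ⟨l, hl⟩ := mem_zpowers_iff.1 hcy
      exact hout (hl ▸ hyu.zpow_left l)
    have hyt : y = 1 ∨ y = t := by
      by_cases h : y = 1
      · exact Or.inl h
      exact Or.inr (involution_unique (inferInstance : IsCyclic Y) hy htY
        (orderOf_eq_prime (by rw [sq, hy2]) h) ht)
    have hxy2 : c * u * c⁻¹ = x * x := by
      rw [hu, show c * (v * v) * c⁻¹ = (c * v * c⁻¹) * (c * v * c⁻¹) by group, hxy]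
      rcases hyt with h | h <;> rw [h]
      · rw [mul_one]
      · rw [show x * t * (x * t) = x * (t * x) * t by group, ← htP x (hL.X_le hx),
          show x * (x * t) * t = x * x * (t * t) by group, ← sq t, ← ht, pow_orderOf_eq_one, mul_one]
    have hconj : orderOf (c * u * c⁻¹) = 2 := by
      rw [← hu2]; exact orderOf_injective (MulAut.conj c).toMonoidHom (MulAut.conj c).injective u
    have := involution_unique hL.X_cyclic (hxy2 ▸ mul_mem hx hx) huX hconj hu2
    rw [mul_inv_eq_iff_eq_mul] at this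
    exact this
  · -- the root of `t` is moved to a square in the Sylow subgroup
    obtain ⟨hdY, hdd⟩ := hd hge
    have hsd : s * d = d * s := mem_centralizer_singleton_iff.1 (hL.le_cent hsP)
    set C := centralizer ({t} : Set G) with hC
    have hPC : (P : Subgroup G) ≤ C := fun w hw => mem_centralizer_singleton_iff.2 (htP w hw)
    have hdC : g⁻¹ * d * g ∈ C := mem_centralizer_singleton_iff.2 (by
      have hgt : g⁻¹ * s * g = t := by rw [hs]; group
      rw [← hgt, show g⁻¹ * d * g * (g⁻¹ * s * g) = g⁻¹ * (d * s) * g by group, ← hsd,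
        show g⁻¹ * s * g * (g⁻¹ * d * g) = g⁻¹ * (s * d) * g by group])
    obtain ⟨f, -, hf⟩ := (Nat.dvd_prime_pow Nat.prime_two).1
      (he ▸ Subgroup.orderOf_dvd_natCard Y hdY)
    have hR : IsPGroup 2 (zpowers (⟨g⁻¹ * d * g, hdC⟩ : C)) := IsPGroup.of_card (n := f) (by
      rw [Nat.card_zpowers, orderOf_mk, ← hf]
      have := orderOf_injective (MulAut.conj g⁻¹).toMonoidHom (MulAut.conj g⁻¹).injective d
      simpa using this)
    obtain ⟨R', hR'⟩ := hR.exists_le_sylow
    obtain ⟨h, hh⟩ := MulAction.exists_smul_eq C R' (P.subtype hPC)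
    have hw : (h : G) * (g⁻¹ * d * g) * (h : G)⁻¹ ∈ (P : Subgroup G) := by
      have h1 : MulAut.conj h (⟨g⁻¹ * d * g, hdC⟩ : C) ∈ ((P.subtype hPC : Sylow 2 C) : Subgroup C) := by
        rw [← hh, Sylow.coe_subgroup_smul]
        exact Subgroup.smul_mem_pointwise_smul _ _ _ (hR' (mem_zpowers _))
      exact h1
    have hw2 := hsq _ hw
    set w := (h : G) * (g⁻¹ * d * g) * (h : G)⁻¹ with hwdef
    have e1 : w * w = (h : G) * g⁻¹ * t * ((h : G) * g⁻¹)⁻¹ := by
      rw [hwdef, ← hdd]; group
    have h2 := S.eq_of_comm_u hL ht htD.1 htP huX hu2 e1 (htP _ (mul_mem hw hw)) hw2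
    refine hne ?_
    have h3 : (h : G) * t = t * h := mem_centralizer_singleton_iff.1 h.2
    rw [e1, mul_inv_eq_iff_eq_mul, ← mul_assoc (t : G), ← h3, mul_assoc, mul_assoc,
      mul_left_cancel_iff] at h2
    rw [hs, mul_inv_eq_iff_eq_mul]
    calc g * t = g * (t * g⁻¹) * g := by group
      _ = g * (g⁻¹ * t) * g := by rw [← h2]
      _ = t * g := by group

/-- **The involution of a two-point stabiliser fixes exactly two points.** -/
theorem Setting.fix_two {a b : Ω} (hab : a ≠ b) {t : G} (htD : t ∈ Zassenhaus.twoPt G a b)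
    (ht : orderOf t = 2) {q : Ω} (hq : t • q = q) : q = a ∨ q = b := by
  classical
  haveI := Fact.mk Nat.prime_two
  haveI := S.transitive
  by_contra hcon
  rw [not_or] at hcon
  obtain ⟨hqa, hqb⟩ := hcon
  have hiso : Cfsg.IsIsolatedInvolution t := by
    refine ⟨ht, fun g hg => ?_⟩
    by_contra hne
    obtain ⟨hpsi, P₁, X₁, Y, hL₁⟩ := S.local_data hab htD hqa hqb hq
    have h4 := S.four_dvd ht hab htD hpsi hg.symm hne
    haveI : IsCyclic Y := by
      haveI := S.twoPt_cyclic hab
      exact isCyclic_of_injective (inclusion hL₁.Y_le') (inclusion_injective _)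
    obtain ⟨⟨c, hc⟩, hcgen⟩ := IsCyclic.exists_generator (α := Y)
    have hco : orderOf c = Nat.card Y := by
      rw [← orderOf_eq_card_of_forall_mem_zpowers hcgen, orderOf_mk]
    obtain ⟨e, he⟩ := (P₁.2.to_le hL₁.Y_le).exists_card_eq
    -- every 2-element of the two-point stabiliser lies in `Y`
    have hYall : ∀ Y' : Subgroup G, Y' ≤ Zassenhaus.twoPt G a b →
        ¬ 2 ∣ Y'.relIndex (Zassenhaus.twoPt G a b) → ∀ y ∈ Zassenhaus.twoPt G a b,
        ∀ f : ℕ, y ^ 2 ^ f = 1 → y ∈ Y' := by
      intro Y' hY' hidx y hy f hf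
      haveI := S.twoPt_cyclic hab
      letI := IsCyclic.commGroup (α := Zassenhaus.twoPt G a b)
      have hn : (Y'.subgroupOf (Zassenhaus.twoPt G a b)).Normal := inferInstance
      show (⟨y, hy⟩ : Zassenhaus.twoPt G a b) ∈ Y'.subgroupOf (Zassenhaus.twoPt G a b)
      rw [← QuotientGroup.eq_one_iff, ← orderOf_eq_one_iff]
      refine Nat.eq_one_of_dvd_coprimes (a := 2 ^ f)
        (b := (Y'.subgroupOf (Zassenhaus.twoPt G a b)).index) ?_ ?_ ?_
      · exact Nat.Coprime.pow_left f (Nat.prime_two.coprime_iff_not_dvd.2 hidx)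
      · exact (orderOf_map_dvd (QuotientGroup.mk' _) _).trans
          (orderOf_dvd_of_pow_eq_one (Subtype.ext hf))
      · rw [index_eq_card]; exact orderOf_dvd_natCard _
    have htY : t ∈ Y := hYall Y hL₁.Y_le' hL₁.Y_index t htD 1
      (by rw [pow_one, ← ht, pow_orderOf_eq_one])
    -- choose the root of `t`
    obtain ⟨d, P, X, Y', hL, hd, htP⟩ : ∃ (d : G) (P : Sylow 2 G) (X Y' : Subgroup G),
        LocalData G Ω (Zassenhaus.twoPt G a b) a d P X Y' ∧
          (8 ≤ Nat.card Y' → d ∈ Y' ∧ d * d = t) ∧ ∀ z ∈ (P : Subgroup G), z * t = t * z := by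
      by_cases h8 : 8 ≤ Nat.card Y
      · -- a prime congruent to 3 modulo 4
        have he3 : 3 ≤ e := by
          by_contra hh
          have := Nat.pow_le_pow_right (show 0 < 2 by norm_num) (show e ≤ 2 by omega)
          omega
        obtain ⟨j, hj, hnj⟩ := hL₁.X_card
        have h4X : 4 ∣ Nat.card X₁ := by
          have hc4 : Nat.Coprime 4 j := by
            rw [show (4 : ℕ) = 2 ^ 2 by rfl]
            exact Nat.Coprime.pow_left 2 (Nat.prime_two.coprime_iff_not_dvd.2 fun h =>
              Nat.not_even_iff_odd.2 hj (even_iff_two_dvd.2 h))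
          rw [Nat.card_eq_fintype_card] at hnj
          exact hc4.dvd_of_dvd_mul_right (hnj ▸ h4)
        have h4f := h4X.trans hL₁.X_dvd
        rw [Nat.card_eq_fintype_card, S.card_fix hab htD] at h4f
        obtain ⟨p, hp, hpy, hp4⟩ := exists_prime_three_mod_four
          (Nat.card ↥(kerF G a ⊓ centralizer ({t} : Set G))) (by omega)
        haveI := Fact.mk hp
        obtain ⟨⟨v, hv⟩, hvo⟩ := exists_prime_orderOf_dvd_card' p hpy
        rw [orderOf_mk] at hvo
        have hcD := hL₁.Y_le' hc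
        set N := normalizer ((zpowers v : Subgroup G) : Set G) with hN
        have hcN : c ∈ N := by
          have hle : ∀ x : G, x • a = a → (zpowers v).map (MulAut.conj x).toMonoidHom ≤ zpowers v :=
            fun x hx => by
              rw [MonoidHom.map_zpowers, zpowers_le]; exact S.kerF_conj hx hv.1
          rw [hN, mem_normalizer_iff]
          intro n
          constructor
          · exact fun hn => hle c hcD.1 (mem_map_of_mem _ hn)
          · intro hn
            have := hle c⁻¹ (inv_smul_eq_iff.2 hcD.1.symm) (mem_map_of_mem _ hn)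
            simpa [mul_assoc] using this
        have hc2v : c * c * v = v * (c * c) := by
          haveI : IsCyclic (zpowers v) := inferInstance
          set φ := normalizerMonoidHom (zpowers v) ⟨c, hcN⟩ with hφ
          have h1 : orderOf φ ∣ 2 := by
            have ha : orderOf φ ∣ 2 ^ e := (orderOf_map_dvd _ _).trans
              (by rw [orderOf_mk, hco, he])
            have hb : orderOf φ ∣ p - 1 := by
              have := orderOf_dvd_natCard φ
              rwa [IsCyclic.card_mulAut, Nat.card_zpowers, hvo, Nat.totient_prime hp] at this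
            have hcp : Nat.Coprime (2 ^ e) ((p - 1) / 2) :=
              Nat.Coprime.pow_left e (Nat.prime_two.coprime_iff_not_dvd.2 (by omega))
            have hmul : orderOf φ ∣ 2 * ((p - 1) / 2) := by
              rwa [show 2 * ((p - 1) / 2) = p - 1 by omega]
            exact (Nat.Coprime.coprime_dvd_left ha hcp).dvd_of_dvd_mul_right hmul
          have h2 : (⟨c * c, mul_mem hcN hcN⟩ : N) ∈ (normalizerMonoidHom (zpowers v)).ker := by
            rw [MonoidHom.mem_ker, show (⟨c * c, mul_mem hcN hcN⟩ : N) = ⟨c, hcN⟩ * ⟨c, hcN⟩ from rfl,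
              map_mul, ← sq, ← orderOf_dvd_iff_pow_eq_one]
            exact h1
          rw [normalizerMonoidHom_ker, mem_subgroupOf, mem_centralizer_iff] at h2
          exact (h2 v (mem_zpowers v)).symm
        set d := c ^ 2 ^ (e - 2) with hd
        have hdD : d ∈ Zassenhaus.twoPt G a b := pow_mem hcD _
        have hdv : d * v = v * d := by
          have hd' : d = (c * c) ^ 2 ^ (e - 3) := by
            rw [hd, ← sq, ← pow_mul, ← pow_succ']
            congr 2
            omega
          rw [hd']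
          exact (show Commute (c * c) v from hc2v).pow_left _
        have hdo : d * d = t := by
          refine involution_unique (inferInstance : IsCyclic Y) (mul_mem (pow_mem hc _) (pow_mem hc _))
            htY ?_ ht
          rw [hd, ← pow_add, ← two_mul, ← pow_succ']
          refine orderOf_eq_prime ?_ ?_
          · rw [← pow_mul, ← pow_succ, show e - 2 + 1 + 1 = e by omega, ← he, ← hco, pow_orderOf_eq_one]
          · refine pow_ne_one_of_lt_orderOf (by positivity) ?_
            rw [hco, he]; exact Nat.pow_lt_pow_right (by norm_num) (by omega)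
        have hvb : v • b ≠ b := fun h => by
          rw [S.kerF_semiregular hab hv.1 h, orderOf_one] at hvo
          exact hp.one_lt.ne hvo
        have hva : v • b ≠ a := (S.isKernel a).smul_ne hv.1 (Ne.symm hab)
        have hdq : d • v • b = v • b := by rw [← mul_smul, hdv, mul_smul, hdD.2]
        obtain ⟨-, P, X, Y', hL⟩ := S.local_data hab hdD hva hvb hdq
        refine ⟨d, P, X, Y', hL, fun _ => ⟨?_, hdo⟩, fun z hz => ?_⟩
        · refine hYall Y' hL.Y_le' hL.Y_index d hdD e ?_
          rw [hd, ← pow_mul, mul_comm, pow_mul, ← he, ← hco, pow_orderOf_eq_one, one_pow]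
        · have h : Commute z d := mem_centralizer_singleton_iff.1 (hL.le_cent hz)
          rw [← hdo]; exact h.mul_right h
      · exact ⟨t, P₁, X₁, Y, hL₁, fun h => absurd h h8,
          fun z hz => mem_centralizer_singleton_iff.1 (hL₁.le_cent hz)⟩
    have htY' : t ∈ Y' := hYall Y' hL.Y_le' hL.Y_index t htD 1
      (by rw [pow_one, ← ht, pow_orderOf_eq_one])
    -- move the conjugate into `P`
    set C := centralizer ({t} : Set G) with hC
    have hPC : (P : Subgroup G) ≤ C := fun w hw => mem_centralizer_singleton_iff.2 (htP w hw)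
    have hsC : g * t * g⁻¹ ∈ C := mem_centralizer_singleton_iff.2 hg.symm
    have hR : IsPGroup 2 (zpowers (⟨g * t * g⁻¹, hsC⟩ : C)) := IsPGroup.of_card (n := 1) (by
      rw [Nat.card_zpowers, orderOf_mk, pow_one, ← ht]
      exact orderOf_injective (MulAut.conj g).toMonoidHom (MulAut.conj g).injective t)
    obtain ⟨R', hR'⟩ := hR.exists_le_sylow
    obtain ⟨h, hh⟩ := MulAction.exists_smul_eq C R' (P.subtype hPC)
    have hw : (h : G) * (g * t * g⁻¹) * (h : G)⁻¹ ∈ (P : Subgroup G) := by
      have h1 : MulAut.conj h (⟨g * t * g⁻¹, hsC⟩ : C) ∈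
          ((P.subtype hPC : Sylow 2 C) : Subgroup C) := by
        rw [← hh, Sylow.coe_subgroup_smul]
        exact Subgroup.smul_mem_pointwise_smul _ _ _ (hR' (mem_zpowers _))
      exact h1
    have h2 := S.eq_of_mem_sylow hab hL ht htD htY' h4 htP hd hw (g := (h : G) * g) (by group)
    refine hne ?_
    have h3 : (h : G) * t = t * h := mem_centralizer_singleton_iff.1 h.2
    rw [mul_inv_eq_iff_eq_mul, ← h3, mul_left_cancel_iff] at h2
    exact h2
  -- Glauberman's theorem
  have hO : Cfsg.oddCore G = ⊥ := S.eq_bot_of_odd _ (Core.not_dvd_card_pPrimeCore (p := 2) (G := G))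
  have hcen : ∀ g : G, t * g = g * t := fun g => by
    have := Invol.zstar hiso g
    rw [hO, mem_bot, mul_inv_eq_one, mul_inv_eq_iff_eq_mul] at this
    exact this
  have h1 : t = 1 := S.faithful t fun p => by
    obtain ⟨g, rfl⟩ := MulAction.exists_smul_eq G a p
    rw [← mul_smul, hcen, mul_smul, htD.1]
  rw [h1, orderOf_one] at ht
  omega

end Cfsg.Agent.CyclicZ
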