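import Cfsg.Agent.CyclicZ.Stab

/-!
The centraliser of an element fixing at least three points: it is doubly transitive on the fixed
points, contains a Sylow 2-subgroup of the whole group, and the two signs agree on it.
-/

set_option autoImplicit false
set_option linter.style.haveILetI false
set_option linter.unusedSectionVars false

namespace Cfsg.Agent.CyclicZ

open Subgroup MulAction

variable {G Ω : Type*} [Group G] [Finite G] [MulAction G Ω] [Fintype Ω] [DecidableEq Ω]
  {A : Subgroup G}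

/-- A group element centralising `d` permutes the fixed points of `d`. -/
theorem fixed_iff_of_comm {d g : G} (h : g * d = d * g) (p : Ω) :
    d • g • p = g • p ↔ d • p = p := by
  rw [← mul_smul, ← h, mul_smul]
  exact ⟨fun e => MulAction.injective g e, fun e => by rw [e]⟩

variable (Ω) in
/-- The action of the centraliser on the fixed points. -/
noncomputable def fixHom (d : G) : centralizer ({d} : Set G) →* Equiv.Perm {p : Ω // d • p = p} where
  toFun g := (MulAction.toPerm (g : G) : Equiv.Perm Ω).subtypePerm fun p =>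
    fixed_iff_of_comm (mem_centralizer_singleton_iff.1 g.2) p
  map_one' := Equiv.ext fun p => Subtype.ext (one_smul G (p : Ω))
  map_mul' g h := Equiv.ext fun p => Subtype.ext (mul_smul (g : G) (h : G) (p : Ω))

variable (Ω) in
/-- The sign on the fixed points. -/
noncomputable def sgnFix (d : G) : centralizer ({d} : Set G) →* ℤˣ :=
  Equiv.Perm.sign.comp (fixHom Ω d)

variable (S : Setting G Ω A)
include S

theorem Setting.twoPt_comm {a b : Ω} (hab : a ≠ b) {d e : G} (hd : d ∈ Zassenhaus.twoPt G a b)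
    (he : e ∈ Zassenhaus.twoPt G a b) : d * e = e * d := by
  haveI := S.twoPt_cyclic hab
  letI := IsCyclic.commGroup (α := Zassenhaus.twoPt G a b)
  exact congrArg Subtype.val (mul_comm (⟨d, hd⟩ : Zassenhaus.twoPt G a b) ⟨e, he⟩)

/-- An element of the kernel moving one fixed point of `d` to another commutes with `d`. -/
theorem Setting.kerF_comm {a : Ω} {d u : G} (hda : d • a = a) (hu : u ∈ kerF G a) {p : Ω}
    (hp : p ≠ a) (hdp : d • p = p) (hdu : d • u • p = u • p) : u * d = d * u := by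
  have hF := S.isKernel a
  have hne : u • p ≠ a := fun e => hp (MulAction.injective u (e.trans (hF.fix u hu).symm))
  obtain ⟨v, -, hv⟩ := hF.reg p (u • p) hp hne
  have e1 : (⟨u, hu⟩ : kerF G a) = v := hv _ rfl
  have e2 : (⟨d * u * d⁻¹, hF.norm d hda u hu⟩ : kerF G a) = v := hv _ (by
    show (d * u * d⁻¹) • p = u • p
    rw [mul_smul, mul_smul, inv_smul_eq_iff.2 hdp.symm, hdu])
  have e3 : d * u * d⁻¹ = u := congrArg Subtype.val (e2.trans e1.symm)
  rw [mul_inv_eq_iff_eq_mul] at e3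
  exact e3.symm

/-- In the stabiliser of `a` the normaliser of `⟨d⟩` centralises it. -/
theorem Setting.stab_comm {a b : Ω} (hab : a ≠ b) {d g : G} (hd : d ∈ Zassenhaus.twoPt G a b)
    (hga : g • a = a) (hg : g * d * g⁻¹ ∈ zpowers d) : g * d = d * g := by
  obtain ⟨u, hu, e, he, rfl⟩ := S.factor hab hga
  have hed : e * d = d * e := S.twoPt_comm hab he hd
  have h1 : u * d * u⁻¹ ∈ zpowers d := by
    rwa [show u * e * d * (u * e)⁻¹ = u * (e * d * e⁻¹) * u⁻¹ by group, hed,
      mul_inv_cancel_right] at hg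
  have h2 : u * (d * u⁻¹ * d⁻¹) ∈ kerF G a :=
    mul_mem hu ((S.isKernel a).norm d hd.1 _ (inv_mem hu))
  have h3 : u * (d * u⁻¹ * d⁻¹) ∈ Zassenhaus.twoPt G a b := by
    rw [show u * (d * u⁻¹ * d⁻¹) = u * d * u⁻¹ * d⁻¹ by group]
    exact mul_mem (zpowers_le.2 hd h1) (inv_mem hd)
  have h4 := S.kerF_semiregular hab h2 h3.2
  have h5 : u * d = d * u := by
    rw [show u * (d * u⁻¹ * d⁻¹) = u * d * (d * u)⁻¹ by group, mul_inv_eq_one] at h4
    exact h4
  rw [mul_assoc, hed, ← mul_assoc, h5, mul_assoc]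

theorem Setting.swap_mem_zpowers {a b : Ω} (hab : a ≠ b) {d g : G}
    (hd : d ∈ Zassenhaus.twoPt G a b) (h1 : g • a = b) (h2 : g • b = a) :
    g * d * g⁻¹ ∈ zpowers d := by
  haveI := S.twoPt_cyclic hab
  have hmem : g * d * g⁻¹ ∈ Zassenhaus.twoPt G a b := by
    refine ⟨?_, ?_⟩
    · show (g * d * g⁻¹) • a = a
      rw [mul_smul, mul_smul, inv_smul_eq_iff.2 h2.symm, hd.2, h2]
    · show (g * d * g⁻¹) • b = b
      rw [mul_smul, mul_smul, inv_smul_eq_iff.2 h1.symm, hd.1, h1]
  obtain ⟨i, hi⟩ := mem_zpowers_iff.1 (mem_zpowers_of_pow_eq_one (C := Zassenhaus.twoPt G a b)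
    (x := ⟨d, hd⟩) (y := ⟨_, hmem⟩) (Subtype.ext (by
      show (g * d * g⁻¹) ^ orderOf (⟨d, hd⟩ : Zassenhaus.twoPt G a b) = 1
      rw [orderOf_mk, conj_pow, pow_orderOf_eq_one, mul_one, mul_inv_cancel])))
  exact mem_zpowers_iff.2 ⟨i, congrArg Subtype.val hi⟩

theorem Setting.exists_swapper {a b : Ω} (hab : a ≠ b) : ∃ g : G, g • a = b ∧ g • b = a :=
  S.two hab (Ne.symm hab)

/-- An element fixing a third point is centralised by everything normalising its group. -/
theorem Setting.comm_of_normalizes {a b q : Ω} (hab : a ≠ b) {d : G}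
    (hd : d ∈ Zassenhaus.twoPt G a b) (hqa : q ≠ a) (hqb : q ≠ b) (hq : d • q = q) {g : G}
    (hg : g * d * g⁻¹ ∈ zpowers d) : g * d = d * g := by
  classical
  set N := normalizer ((zpowers d : Subgroup G) : Set G) with hN
  have hmemN : ∀ x : G, x * d * x⁻¹ ∈ zpowers d → x ∈ N := fun x hx => by
    rw [hN, mem_normalizer_iff]
    have hle : (zpowers d).map (MulAut.conj x).toMonoidHom ≤ zpowers d := by
      rw [MonoidHom.map_zpowers, zpowers_le]; exact hx
    have heq := eq_of_le_of_card_ge hle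
      (by rw [card_map_of_injective (MulAut.conj x).injective])
    intro n
    constructor
    · intro hn; exact hle (mem_map_of_mem _ hn)
    · intro hn
      obtain ⟨m, hm, e⟩ := heq.ge hn
      have e' : x * m * x⁻¹ = x * n * x⁻¹ := e
      exact (mul_left_cancel (mul_right_cancel e')) ▸ hm
  have hfixN : ∀ x : G, x ∈ N → ∀ p : Ω, d • p = p → d • x • p = x • p := fun x hx p hp => by
    have hx' : x⁻¹ * d * x ∈ zpowers d := (mem_normalizer_iff''.1 hx d).1 (mem_zpowers d)
    have h1 : (x⁻¹ * d * x) • p = p := (zpowers_le.2 (show d ∈ stabilizer G p from hp)) hx'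
    rw [mul_smul, mul_smul, inv_smul_eq_iff] at h1
    exact h1
  have key := CyclicZ.hom_eq_one (H := N) (a := a) (b := b) (c := q) (Δ := {p : Ω | d • p = p})
    (normalizerMonoidHom (zpowers d)) (fun x p hp => hfixN x x.2 p hp) hd.1 hd.2 hq (Ne.symm hab) hqa
    (Ne.symm hqb)
    (fun p hp r hr hpa hra => by
      obtain ⟨u, hu, -⟩ := (S.isKernel a).reg p r hpa hra
      have hc : (u : G) * d = d * u :=
        S.kerF_comm hd.1 u.2 hpa hp (by rw [hu]; exact hr)
      refine ⟨⟨u, hmemN u (by rw [hc, mul_inv_cancel_right]; exact mem_zpowers d)⟩,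
        S.kerF_le a u.2, hu⟩)
    (by
      obtain ⟨x, h1, h2⟩ := S.exists_swapper hab
      exact ⟨⟨x, hmemN x (S.swap_mem_zpowers hab hd h1 h2)⟩, fun e => hab (e.symm.trans h1)⟩)
    (fun x hx => by
      rw [← MonoidHom.mem_ker, normalizerMonoidHom_ker, mem_subgroupOf, mem_centralizer_iff]
      intro y hy
      obtain ⟨i, rfl⟩ := mem_zpowers_iff.1 hy
      have hc : (x : G) * d = d * x := S.stab_comm hab hd hx
        ((mem_normalizer_iff.1 x.2 d).1 (mem_zpowers d))
      exact ((show Commute (x : G) d from hc).zpow_right i).symm)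
    ⟨g, hmemN g hg⟩
  rw [← MonoidHom.mem_ker, normalizerMonoidHom_ker, mem_subgroupOf, mem_centralizer_iff] at key
  exact (key d (mem_zpowers d)).symm

theorem Setting.swap_comm {a b q : Ω} (hab : a ≠ b) {d g : G} (hd : d ∈ Zassenhaus.twoPt G a b)
    (hqa : q ≠ a) (hqb : q ≠ b) (hq : d • q = q) (h1 : g • a = b) (h2 : g • b = a) :
    g * d = d * g :=
  S.comm_of_normalizes hab hd hqa hqb hq (S.swap_mem_zpowers hab hd h1 h2)

/-- The number of fixed points is one more than the kernel part of the centraliser. -/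
theorem Setting.card_fix {a b : Ω} (hab : a ≠ b) {d : G} (hd : d ∈ Zassenhaus.twoPt G a b) :
    Fintype.card {p : Ω // d • p = p} =
      Nat.card ↥(kerF G a ⊓ centralizer ({d} : Set G)) + 1 := by
  have hbij : Function.Bijective fun u : ↥(kerF G a ⊓ centralizer ({d} : Set G)) =>
      (⟨⟨(u : G) • b, (fixed_iff_of_comm (mem_centralizer_singleton_iff.1 u.2.2) b).2 hd.2⟩,
        fun e => hab (MulAction.injective (u : G)
          ((S.kerF_le a u.2.1).trans (congrArg Subtype.val e).symm))⟩ :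
        {p : {p : Ω // d • p = p} // p ≠ ⟨a, hd.1⟩}) := by
    refine ⟨fun u v e => ?_, fun p => ?_⟩
    · have e' : (u : G) • b = (v : G) • b := congrArg (fun z => ((z.1 : {p : Ω // d • p = p}) : Ω)) e
      exact Subtype.ext (inv_mul_eq_one.1 (S.kerF_semiregular hab (mul_mem (inv_mem u.2.1) v.2.1)
        (by rw [mul_smul, ← e', inv_smul_smul])))
    · obtain ⟨u, hu, -⟩ := (S.isKernel a).reg b p.1.1 (Ne.symm hab)
        fun e => p.2 (Subtype.ext e)
      exact ⟨⟨u, u.2, mem_centralizer_singleton_iff.2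
        (S.kerF_comm hd.1 u.2 (Ne.symm hab) hd.2 (by rw [hu]; exact p.1.2))⟩,
        Subtype.ext (Subtype.ext hu)⟩
  rw [Nat.card_eq_of_bijective _ hbij, Nat.card_eq_fintype_card, Fintype.card_subtype_compl,
    Fintype.card_subtype_eq]
  have : 0 < Fintype.card {p : Ω // d • p = p} := Fintype.card_pos_iff.2 ⟨⟨a, hd.1⟩⟩
  omega

theorem Setting.card_kerC_odd {a b : Ω} (hab : a ≠ b) (d : G) :
    Odd (Nat.card ↥(kerF G a ⊓ centralizer ({d} : Set G))) :=
  Odd.of_dvd_nat (by rw [S.kerF_card hab]; exact S.odd_pred) (card_dvd_of_le inf_le_left)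

theorem Setting.even_fix {a b : Ω} (hab : a ≠ b) {d : G} (hd : d ∈ Zassenhaus.twoPt G a b) :
    Even (Fintype.card {p : Ω // d • p = p}) := by
  rw [S.card_fix hab hd]; exact (S.card_kerC_odd hab d).add_one

/-- A conjugate of an element of the cyclic subgroup is semiregular. -/
theorem Setting.conj_semiregular {x g : G} (hx : x ∈ A.map (MulAut.conj g).toMonoidHom) {p : Ω}
    (hp : x • p = p) : x = 1 := by
  obtain ⟨z, hz, rfl⟩ := hx
  have h : (g * z * g⁻¹) • p = p := hp
  rw [mul_smul, mul_smul, smul_eq_iff_eq_inv_smul] at h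
  have := S.semiregular hz h
  subst this
  exact map_one _

omit S in
theorem mul_bijective_of_card {G : Type*} [Group G] [Finite G] {X Y P : Subgroup G} (hX : X ≤ P)
    (hY : Y ≤ P) (hint : ∀ g ∈ X, g ∈ Y → g = 1) (hcard : Nat.card P ≤ Nat.card X * Nat.card Y)
    (z : G) (hz : z ∈ P) : ∃ x ∈ X, ∃ y ∈ Y, z = x * y := by
  let f : X × Y → P := fun e => ⟨(e.1 : G) * e.2, mul_mem (hX e.1.2) (hY e.2.2)⟩
  have hf : Function.Injective f := by
    rintro ⟨x, y⟩ ⟨x', y'⟩ e
    have e' : (x : G) * y = (x' : G) * y' := congrArg Subtype.val e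
    have h1 : (x' : G)⁻¹ * x = (y' : G) * (y : G)⁻¹ := by
      rw [inv_mul_eq_iff_eq_mul, ← mul_assoc, ← e', mul_inv_cancel_right]
    have h2 := hint _ (mul_mem (inv_mem x'.2) x.2) (h1 ▸ mul_mem y'.2 (inv_mem y.2))
    have hxx : x' = x := Subtype.ext (inv_mul_eq_one.1 h2)
    subst hxx
    exact Prod.ext rfl (Subtype.ext (mul_left_cancel e'))
  obtain ⟨⟨x, y⟩, e⟩ := (hf.bijective_of_nat_card_le (by rw [Nat.card_prod]; exact hcard)).2 ⟨z, hz⟩
  exact ⟨x, x.2, y, y.2, (congrArg Subtype.val e).symm⟩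

/-- The data of a Sylow 2-subgroup in the centraliser of an element fixing three points. -/
structure LocalData (G Ω : Type*) [Group G] [MulAction G Ω] (D : Subgroup G) (a : Ω) (d : G)
    (P : Sylow 2 G) (X Y : Subgroup G) : Prop where
  le_cent : (P : Subgroup G) ≤ centralizer ({d} : Set G)
  X_le : X ≤ P
  Y_le : Y ≤ P
  Y_le' : Y ≤ D
  Y_index : ¬ 2 ∣ Y.relIndex D
  X_cyclic : IsCyclic X
  X_free : ∀ x ∈ X, ∀ p : Ω, x • p = p → x = 1
  factor : ∀ z ∈ (P : Subgroup G), ∃ x ∈ X, ∃ y ∈ Y, z = x * y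
  X_card : ∃ j, Odd j ∧ Nat.card Ω = Nat.card X * j
  X_dvd : Nat.card X ∣ Nat.card {p : Ω // d • p = p}
  X_sup : ∃ K : Subgroup G, X ≤ K ∧ IsCyclic K ∧ Nat.card K = Nat.card Ω ∧
    ∀ p r : Ω, ∃ k ∈ K, k • p = r

/-- **The local claim**: signs agree on the centraliser, which contains a Sylow 2-subgroup. -/
theorem Setting.local_data {a b q : Ω} (hab : a ≠ b) {d : G} (hd : d ∈ Zassenhaus.twoPt G a b)
    (hqa : q ≠ a) (hqb : q ≠ b) (hq : d • q = q) :
    (∀ g : centralizer ({d} : Set G), sgn G Ω (g : G) = sgnFix Ω d g) ∧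
      ∃ (P : Sylow 2 G) (X Y : Subgroup G),
        LocalData G Ω (Zassenhaus.twoPt G a b) a d P X Y := by
  classical
  haveI := Fact.mk Nat.prime_two
  haveI := S.transitive
  set D := Zassenhaus.twoPt G a b with hD
  set C := centralizer ({d} : Set G) with hC
  set Δ := {p : Ω // d • p = p} with hΔ
  have hDC : D ≤ C := fun e he => mem_centralizer_singleton_iff.2 (S.twoPt_comm hab he hd)
  obtain ⟨Y₀⟩ := (inferInstance : Nonempty (Sylow 2 D))
  set Y := (Y₀ : Subgroup D).map D.subtype with hY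
  have hYD : Y ≤ D := map_subtype_le _
  obtain ⟨R₀, hR₀⟩ := (Y₀.2.map (inclusion hDC)).exists_le_sylow
  set R := (R₀ : Subgroup C).map C.subtype with hR
  have hRC : R ≤ C := map_subtype_le _
  have hYR : Y ≤ R := by
    rintro _ ⟨y, hy, rfl⟩
    exact ⟨inclusion hDC y, hR₀ (mem_map_of_mem _ hy), rfl⟩
  obtain ⟨P, hRP⟩ := (R₀.2.map C.subtype).exists_le_sylow
  obtain ⟨A₀⟩ := (inferInstance : Nonempty (Sylow 2 A))
  obtain ⟨P₀, hP₀⟩ := (A₀.2.map A.subtype).exists_le_sylow
  obtain ⟨g₀, hg₀⟩ := MulAction.exists_smul_eq G P₀ P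
  set X := ((A₀ : Subgroup A).map A.subtype).map (MulAut.conj g₀).toMonoidHom with hX
  have hXP : X ≤ (P : Subgroup G) := by
    rw [← hg₀, Sylow.coe_subgroup_smul, Subgroup.pointwise_smul_def]
    exact map_mono hP₀
  have hXfree : ∀ x ∈ X, ∀ p : Ω, x • p = p → x = 1 := fun x hx p hp =>
    S.conj_semiregular (map_mono (map_subtype_le _) hx) hp
  haveI := S.cyclic
  haveI hXc : IsCyclic X := by
    haveI : IsCyclic ((A₀ : Subgroup A).map A.subtype) :=
      isCyclic_of_surjective ((A₀ : Subgroup A).equivMapOfInjective A.subtype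
        A.subtype_injective).toMonoidHom (MulEquiv.surjective _)
    exact isCyclic_of_surjective (((A₀ : Subgroup A).map A.subtype).equivMapOfInjective
      (MulAut.conj g₀).toMonoidHom (MulAut.conj g₀).injective).toMonoidHom (MulEquiv.surjective _)
  have hXcard : Nat.card X = Nat.card A₀ := by
    rw [hX, card_map_of_injective (MulAut.conj g₀).injective, card_map_of_injective A.subtype_injective]
  have hn : Fintype.card Ω = Nat.card X * (A₀ : Subgroup A).index := by
    rw [hXcard, (A₀ : Subgroup A).card_mul_index, S.card_A]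
  have hXodd : Odd (A₀ : Subgroup A).index :=
    Nat.not_even_iff_odd.1 fun h => A₀.not_dvd_index h.two_dvd
  have hYcard : Nat.card Y = Nat.card Y₀ := card_map_of_injective D.subtype_injective
  have hint : ∀ g ∈ X, g ∈ Y → g = 1 := fun g hgX hgY => hXfree g hgX a (hYD hgY).1
  -- the order of the Sylow subgroup
  obtain ⟨kP, hkP⟩ := P.2.exists_card_eq
  have hPle : Nat.card P ≤ Nat.card X * Nat.card Y := by
    refine Nat.le_of_dvd (Nat.mul_pos Nat.card_pos Nat.card_pos) ?_
    have h1 : Nat.card P ∣ Nat.card X * Nat.card Y *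
        ((A₀ : Subgroup A).index * ((Fintype.card Ω - 1) * (Y₀ : Subgroup D).index)) := by
      rw [show Nat.card X * Nat.card Y *
        ((A₀ : Subgroup A).index * ((Fintype.card Ω - 1) * (Y₀ : Subgroup D).index)) =
        (Nat.card X * (A₀ : Subgroup A).index) *
          ((Fintype.card Ω - 1) * (Nat.card Y * (Y₀ : Subgroup D).index)) by ring,
        ← hn, hYcard, (Y₀ : Subgroup D).card_mul_index, ← S.card_stabilizer hab,
        ← S.index_stabilizer a, mul_comm, (stabilizer G a).card_mul_index]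
      exact (P : Subgroup G).card_subgroup_dvd_card
    refine Nat.Coprime.dvd_of_dvd_mul_right ?_ h1
    rw [hkP]
    exact Nat.Coprime.pow_left _ (Nat.Coprime.mul_right
      (Nat.prime_two.coprime_iff_not_dvd.2 A₀.not_dvd_index) (Nat.Coprime.mul_right
        (Nat.prime_two.coprime_iff_not_dvd.2 (Nat.two_dvd_ne_zero.2 (Nat.odd_iff.1 S.odd_pred)))
        (Nat.prime_two.coprime_iff_not_dvd.2 Y₀.not_dvd_index)))
  have hYP : Y ≤ (P : Subgroup G) := hYR.trans hRP
  have hfac := mul_bijective_of_card hXP hYP hint hPle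
  -- the part of `X` in the centraliser
  set X₁ := X ⊓ R with hX₁
  have hRfac : ∀ z ∈ R, ∃ x ∈ X₁, ∃ y ∈ Y, z = x * y := fun z hz => by
    obtain ⟨x, hx, y, hy, rfl⟩ := hfac z (hRP hz)
    refine ⟨x, ⟨hx, ?_⟩, y, hy, rfl⟩
    have := mul_mem hz (inv_mem (hYR hy))
    rwa [mul_inv_cancel_right] at this
  haveI hX₁c : IsCyclic X₁ := isCyclic_of_injective (inclusion (inf_le_left : X₁ ≤ X))
    (inclusion_injective _)
  have hRcard : Nat.card R = Nat.card X₁ * Nat.card Y := by
    rw [← Nat.card_prod]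
    refine (Nat.card_eq_of_bijective
      (fun e : X₁ × Y => (⟨(e.1 : G) * e.2, mul_mem e.1.2.2 (hYR e.2.2)⟩ : R)) ⟨?_, ?_⟩).symm
    · rintro ⟨x, y⟩ ⟨x', y'⟩ e
      have e' : (x : G) * y = (x' : G) * y' := congrArg Subtype.val e
      have h1 : (x' : G)⁻¹ * x = (y' : G) * (y : G)⁻¹ := by
        rw [inv_mul_eq_iff_eq_mul, ← mul_assoc, ← e', mul_inv_cancel_right]
      have hxx : x' = x := Subtype.ext (inv_mul_eq_one.1 (hint _ (mul_mem (inv_mem x'.2.1) x.2.1)
        (h1 ▸ mul_mem y'.2 (inv_mem y.2))))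
      subst hxx
      exact Prod.ext rfl (Subtype.ext (mul_left_cancel e'))
    · rintro ⟨z, hz⟩
      obtain ⟨x, hx, y, hy, rfl⟩ := hRfac z hz
      exact ⟨(⟨x, hx⟩, ⟨y, hy⟩), rfl⟩
  -- transitivity of the centraliser on the fixed points
  have htr : ∀ p r : Ω, p ≠ a → r ≠ a → d • p = p → d • r = r →
      ∃ u : C, (u : G) • a = a ∧ (u : G) • p = r := fun p r hpa hra hp hr => by
    obtain ⟨u, hu, -⟩ := (S.isKernel a).reg p r hpa hra
    exact ⟨⟨u, mem_centralizer_singleton_iff.2 (S.kerF_comm hd.1 u.2 hpa hp (by rw [hu]; exact hr))⟩,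
      S.kerF_le a u.2, hu⟩
  obtain ⟨w, hwa, hwb⟩ := S.exists_swapper hab
  have hwC : w ∈ C := mem_centralizer_singleton_iff.2 (S.swap_comm hab hd hqa hqb hq hwa hwb)
  -- orders
  set Ca := (stabilizer G a).subgroupOf C with hCa
  have hCaidx : Ca.index = Fintype.card Δ := by
    have hst : stabilizer C a = Ca := rfl
    rw [← hst, MulAction.index_stabilizer, ← Nat.card_eq_fintype_card]
    have : orbit C a = {p : Ω | d • p = p} := by
      ext p
      constructor
      · rintro ⟨g, rfl⟩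
        exact (fixed_iff_of_comm (mem_centralizer_singleton_iff.1 g.2) a).2 hd.1
      · intro hp
        by_cases hpa : p = a
        · rw [hpa]; exact mem_orbit_self a
        obtain ⟨u, hua, hub⟩ := htr b p (Ne.symm hab) hpa hd.2 hp
        refine ⟨u * ⟨w, hwC⟩, ?_⟩
        show ((u : G) * w) • a = p
        rw [mul_smul, hwa, hub]
    rw [this, ← Nat.card_coe_set_eq]
    rfl
  have hCacard : Nat.card Ca = Nat.card ↥(kerF G a ⊓ C) * Nat.card D := by
    rw [← Nat.card_prod]
    refine (Nat.card_eq_of_bijective (fun e : ↥(kerF G a ⊓ C) × D =>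
      (⟨⟨(e.1 : G) * e.2, mul_mem e.1.2.2 (hDC e.2.2)⟩, by
        show ((e.1 : G) * e.2) • a = a
        rw [mul_smul, (e.2.2).1, S.kerF_le a e.1.2.1]⟩ : Ca)) ⟨?_, ?_⟩).symm
    · rintro ⟨u, e⟩ ⟨u', e'⟩ h
      have h' : (u : G) * e = (u' : G) * e' := congrArg (fun z : Ca => ((z : C) : G)) h
      have h1 : (u' : G)⁻¹ * u = (e' : G) * (e : G)⁻¹ := by
        rw [inv_mul_eq_iff_eq_mul, ← mul_assoc, ← h', mul_inv_cancel_right]
      have h2 : (u' : G)⁻¹ * u = 1 := S.kerF_semiregular hab (mul_mem (inv_mem u'.2.1) u.2.1)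
        (by rw [h1]; exact (mul_mem e'.2 (inv_mem e.2) : (e' : G) * (e : G)⁻¹ ∈ D).2)
      have huu : u' = u := Subtype.ext (inv_mul_eq_one.1 h2)
      subst huu
      exact Prod.ext rfl (Subtype.ext (mul_left_cancel h'))
    · rintro ⟨⟨g, hgC⟩, hga⟩
      obtain ⟨u, hu, e, he, rfl⟩ := S.factor hab (g := g) hga
      have huC : u ∈ C := by
        have := mul_mem hgC (inv_mem (hDC he))
        rwa [mul_inv_cancel_right] at this
      exact ⟨(⟨u, hu, huC⟩, ⟨e, he⟩), rfl⟩
  set k := Nat.card X₁ with hk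
  obtain ⟨j, hj, hfk⟩ : ∃ j, Odd j ∧ Fintype.card Δ = k * j := by
    have h1 : Nat.card R * (R₀ : Subgroup C).index = Nat.card C := by
      rw [hR, card_map_of_injective C.subtype_injective, (R₀ : Subgroup C).card_mul_index]
    rw [← Ca.card_mul_index, hCaidx, hCacard, hRcard, ← (Y₀ : Subgroup D).card_mul_index,
      ← hYcard] at h1
    have h2 : k * (R₀ : Subgroup C).index =
        Fintype.card Δ * (Nat.card ↥(kerF G a ⊓ C) * (Y₀ : Subgroup D).index) := by
      refine Nat.eq_of_mul_eq_mul_left (Nat.card_pos (α := Y)) ?_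
      calc Nat.card Y * (k * (R₀ : Subgroup C).index) = k * Nat.card Y * (R₀ : Subgroup C).index := by
            ring
        _ = _ := h1.trans (by ring)
    have hodd : Odd (Nat.card ↥(kerF G a ⊓ C) * (Y₀ : Subgroup D).index) :=
      (S.card_kerC_odd hab d).mul (Nat.not_even_iff_odd.1 fun h => Y₀.not_dvd_index h.two_dvd)
    obtain ⟨e, he⟩ := (P.2.to_le ((inf_le_left : X₁ ≤ X).trans hXP)).exists_card_eq
    have hkd : k ∣ Fintype.card Δ := by
      refine Nat.Coprime.dvd_of_dvd_mul_right ?_ (h2 ▸ dvd_mul_right k _)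
      rw [hk, he]
      exact Nat.Coprime.pow_left _ (Nat.prime_two.coprime_iff_not_dvd.2 (fun h =>
        Nat.not_even_iff_odd.2 hodd (even_iff_two_dvd.2 h)))
    obtain ⟨j, hj⟩ := hkd
    refine ⟨j, ?_, hj⟩
    have hi : Odd (R₀ : Subgroup C).index :=
      Nat.not_even_iff_odd.1 fun h => R₀.not_dvd_index h.two_dvd
    rw [hj, mul_assoc] at h2
    rw [Nat.eq_of_mul_eq_mul_left Nat.card_pos h2] at hi
    exact (Nat.odd_mul.1 hi).1
  obtain ⟨⟨x₁, hx₁⟩, hgen₁⟩ := IsCyclic.exists_generator (α := X₁)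
  have hx₁C : x₁ ∈ C := hRC hx₁.2
  have hord₁ : orderOf x₁ = k := by
    rw [hk, ← orderOf_eq_card_of_forall_mem_zpowers hgen₁, orderOf_mk]
  have hkeven : Even k := by
    have h := S.even_fix hab hd
    rw [hfk, Nat.even_mul] at h
    exact h.resolve_right (Nat.not_even_iff_odd.2 hj)
  -- `x₁` is odd on the fixed points
  have hx₁sgn : sgnFix Ω d ⟨x₁, hx₁C⟩ = -1 := by
    show Equiv.Perm.sign (fixHom Ω d ⟨x₁, hx₁C⟩) = -1
    refine sign_semiregular_of_even hkeven Nat.card_pos ?_ ?_ ?_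
    · rw [← map_pow, ← hord₁, show (⟨x₁, hx₁C⟩ : C) ^ orderOf x₁ = 1 from
        Subtype.ext (pow_orderOf_eq_one x₁), map_one]
    · intro i h0 hi p e
      rw [← map_pow] at e
      have e' : x₁ ^ i • (p : Ω) = p := congrArg Subtype.val e
      exact pow_ne_one_of_lt_orderOf (by omega) (hord₁ ▸ hi)
        (hXfree _ (pow_mem hx₁.1 i) _ e')
    · rw [hfk, Nat.mul_div_cancel_left _ Nat.card_pos]
      exact hj
  -- the generator of the two-point stabiliser is odd on the fixed points
  obtain ⟨c, hc, hgen, hcs⟩ := S.exists_odd_generator hab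
  have hvanish : ∀ f : C →* ℤˣ, f ⟨c, hDC hc⟩ = 1 → ∀ g : C, f g = 1 := fun f hf =>
    CyclicZ.hom_eq_one (Δ := {p : Ω | d • p = p}) (a := a) (b := b) (c := q) f
      (fun g p hp => (fixed_iff_of_comm (mem_centralizer_singleton_iff.1 g.2) p).2 hp)
      hd.1 hd.2 hq (Ne.symm hab) hqa (Ne.symm hqb)
      (fun p hp r hr hpa hra => htr p r hpa hra hp hr)
      ⟨⟨w, hwC⟩, fun e => hab (e.symm.trans hwa)⟩
      (fun g hg => by
        obtain ⟨u, hu, e, he, hge⟩ := S.factor hab (g := (g : G)) hg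
        have huC : u ∈ C := by
          have := mul_mem g.2 (inv_mem (hDC he))
          rwa [hge, mul_inv_cancel_right] at this
        obtain ⟨i, hi⟩ := mem_zpowers_iff.1 (hgen e he)
        have : g = ⟨u, huC⟩ * (⟨c, hDC hc⟩ : C) ^ i := Subtype.ext (by push_cast; rw [hge, hi])
        rw [this, map_mul, map_zpow, hf, one_zpow, mul_one]
        exact units_int_eq_one_of_odd_order f _ (by rw [orderOf_mk]; exact S.kerF_odd hu))
  have hcfix : sgnFix Ω d ⟨c, hDC hc⟩ = -1 := (Int.units_eq_one_or _).resolve_left fun h => by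
    have := hvanish _ h ⟨x₁, hx₁C⟩
    rw [hx₁sgn] at this
    exact absurd this (by decide)
  have hpsi : ∀ g : C, sgn G Ω (g : G) = sgnFix Ω d g := by
    have := hvanish ((sgn G Ω).comp C.subtype * sgnFix Ω d) (by
      show sgn G Ω c * sgnFix Ω d ⟨c, hDC hc⟩ = 1
      rw [hcs, hcfix]; rfl)
    intro g
    have h1 : sgn G Ω (g : G) * sgnFix Ω d g = 1 := this g
    rcases Int.units_eq_one_or (sgnFix Ω d g) with h | h <;> rw [h] at h1 ⊢
    · rwa [mul_one] at h1
    · rw [mul_neg, mul_one, neg_eq_iff_eq_neg] at h1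
      exact h1
  -- hence all of `X` centralises `d`
  have hXR : X ≤ R := by
    by_contra hne
    obtain ⟨⟨z, hz⟩, hzgen⟩ := IsCyclic.exists_generator (α := X)
    obtain ⟨i, hi⟩ := mem_zpowers_iff.1 (hzgen ⟨x₁, hx₁.1⟩)
    have hzi : z ^ i = x₁ := congrArg Subtype.val hi
    rcases Int.even_or_odd i with hev | hod
    · obtain ⟨l, hl⟩ := hev
      have h1 := hpsi ⟨x₁, hx₁C⟩
      rw [hx₁sgn] at h1
      change sgn G Ω x₁ = -1 at h1
      rw [← hzi, hl, map_zpow, zpow_add, ← mul_zpow, Int.units_mul_self, one_zpow] at h1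
      exact absurd h1 (by decide)
    · refine hne fun y hy => ?_
      obtain ⟨l, hl⟩ := mem_zpowers_iff.1 (hzgen ⟨y, hy⟩)
      suffices z ∈ R by
        have e : z ^ l = y := congrArg Subtype.val hl
        rw [← e]; exact zpow_mem this l
      obtain ⟨e, he⟩ := (P.2.to_le hXP).exists_card_eq
      have hco : IsCoprime i (orderOf z : ℤ) := by
        obtain ⟨f, hf⟩ : ∃ f, orderOf z = 2 ^ f := by
          obtain ⟨f, -, hf⟩ := (Nat.dvd_prime_pow Nat.prime_two).1
            (he ▸ Subgroup.orderOf_dvd_natCard _ hz)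
          exact ⟨f, hf⟩
        rw [hf]; push_cast
        refine IsCoprime.pow_right ?_
        obtain ⟨t, rfl⟩ := hod
        exact ⟨1, -t, by ring⟩
      obtain ⟨α, β, hαβ⟩ := hco
      have : z = x₁ ^ α := by
        rw [← hzi, ← zpow_mul, mul_comm]
        calc z = z ^ (α * i + β * (orderOf z : ℤ)) := by rw [hαβ, zpow_one]
          _ = z ^ (α * i) := by
            rw [zpow_add, mul_comm β, zpow_mul _ (orderOf z : ℤ), zpow_natCast, pow_orderOf_eq_one,
              one_zpow, mul_one]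
      rw [this]
      exact Subgroup.zpow_mem R hx₁.2 α
  have hPR : (P : Subgroup G) ≤ R := fun z hz => by
    obtain ⟨x, hx, y, hy, rfl⟩ := hfac z hz
    exact mul_mem (hXR hx) (hYR hy)
  refine ⟨hpsi, P, X, Y, hPR.trans hRC, hXP, hYP, hYD, ?_, hXc, hXfree, hfac,
    ⟨_, hXodd, by rw [Nat.card_eq_fintype_card, hn]⟩, ?_,
    ⟨A.map (MulAut.conj g₀).toMonoidHom, map_mono (map_subtype_le _),
      isCyclic_of_surjective (A.equivMapOfInjective (MulAut.conj g₀).toMonoidHom
        (MulAut.conj g₀).injective).toMonoidHom (MulEquiv.surjective _),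
      by rw [card_map_of_injective (MulAut.conj g₀).injective, S.card_A, Nat.card_eq_fintype_card],
      fun p r => by
        obtain ⟨x, hx, -⟩ := S.reg (g₀⁻¹ • p) (g₀⁻¹ • r)
        exact ⟨_, mem_map_of_mem _ x.2, by
          show (g₀ * (x : G) * g₀⁻¹) • p = r
          rw [mul_smul, mul_smul, hx, smul_inv_smul]⟩⟩⟩
  · rw [relIndex, show Y.subgroupOf D = (Y₀ : Subgroup D) from
      comap_map_eq_self_of_injective D.subtype_injective _]
    exact Y₀.not_dvd_index
  · rw [Nat.card_eq_fintype_card (α := {p : Ω // d • p = p}), hfk,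
      show k = Nat.card X by rw [hk, hX₁, inf_eq_left.2 hXR]]
    exact dvd_mul_right _ _

end Cfsg.Agent.CyclicZ
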