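import Cfsg.Agent.CyclicZ.Normal
import Cfsg.Agent.CyclicZ.Count
import Cfsg.Agent.S0675
import Cfsg.Agent.S3559
import Cfsg.Agent.S3972

/-!
Nonsolvable products of a cyclic group and a Z-group are `PGL₂(p)` modulo the solvable radical.
-/

set_option autoImplicit false
set_option linter.style.haveILetI false

namespace Cfsg.Agent.CyclicZ

open Subgroup MulAction

universe u

/-- A primitive group of degree at least 3 with a regular cyclic subgroup and a nonsolvable group is
doubly transitive. -/
theorem two_transitive {G : Type u} {Ω : Type u} [Group G] [Finite G] [MulAction G Ω]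
    [Fintype Ω] [DecidableEq Ω] [FaithfulSMul G Ω] [IsPretransitive G Ω]
    (hprim : IsPreprimitive G Ω) (hsol : ¬ Group.IsSolvable G) (A : Subgroup G) (hA : IsCyclic A)
    (htr : IsPretransitive A Ω) (hfree : ∀ a : Ω, stabilizer A a = ⊥) (hn : 2 ≤ Nat.card Ω) :
    IsMultiplyPretransitive G Ω 2 := by
  classical
  by_cases hpp : IsPrimePow (Nat.card Ω)
  swap
  · exact (S3559.result (inferInstance : IsPretransitive G Ω) hn hpp A hA
      ⟨htr, hfree⟩).resolve_left (not_not.2 hprim)
  set P := (toPermHom G Ω).range with hP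
  have hinj : Function.Injective (toPermHom G Ω) := fun x y h =>
    FaithfulSMul.eq_of_smul_eq_smul (α := Ω) fun p => congrArg (fun e : Equiv.Perm Ω => e p) h
  let e : G →* P := (toPermHom G Ω).rangeRestrict
  haveI : IsPretransitive P Ω := ⟨fun x y => by
    obtain ⟨g, hg⟩ := MulAction.exists_smul_eq G x y; exact ⟨e g, hg⟩⟩
  have htrans : IsMultiplyPretransitive P Ω 2 → IsMultiplyPretransitive G Ω 2 := fun h => by
    rw [is_two_pretransitive_iff] at h ⊢
    intro a b c d hab hcd
    obtain ⟨⟨_, g, rfl⟩, h1, h2⟩ := h hab hcd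
    exact ⟨g, h1, h2⟩
  obtain ⟨q, m, hq, hm, hqm⟩ := hpp
  rw [← Nat.prime_iff] at hq
  rw [Nat.card_eq_fintype_card] at hqm
  rcases Nat.lt_or_ge m 2 with hm2 | hm2
  · rw [show m = 1 by omega, pow_one] at hqm
    refine htrans ((S0675.result (hqm ▸ hq) P).resolve_left fun hs => hsol ?_)
    haveI := hs
    exact Group.isSolvable_of_isSolvable_injective (f := e) fun x y h => hinj (congrArg Subtype.val h)
  by_contra h2
  haveI := hA
  obtain ⟨⟨x, hx⟩, hgen⟩ := IsCyclic.exists_generator (α := A)
  have hord : orderOf (e x) = q ^ m := by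
    rw [orderOf_injective e (fun x y h => hinj (congrArg Subtype.val h)), hqm,
      show orderOf x = orderOf (⟨x, hx⟩ : A) from (orderOf_mk _ _).symm,
      orderOf_eq_card_of_forall_mem_zpowers hgen, ← Nat.card_eq_fintype_card]
    obtain ⟨p⟩ : Nonempty Ω := (Nat.card_pos_iff.1 (by omega)).1
    refine Nat.card_eq_of_bijective (fun a : A => a • p) ⟨fun a b h => ?_, fun r => ?_⟩
    · have h1 : a⁻¹ * b ∈ stabilizer A p := by
        rw [mem_stabilizer_iff, mul_smul, ← show a • p = b • p from h, inv_smul_smul]
      rw [hfree p, mem_bot, inv_mul_eq_one] at h1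
      exact h1
    · exact MulAction.exists_smul_eq A p r
  refine (S3972.result q m hq hm2 hqm.symm P inferInstance (fun h => h2 (htrans h)) (e x) hord).1 ?_
  haveI := hprim
  exact IsPreprimitive.of_surjective (f := (⟨id, fun _ _ => rfl⟩ : Ω →ₑ[e] Ω)) Function.surjective_id

/-- A normal subgroup of solvable index containing the cyclic factor is everything. -/
theorem eq_top_of_cyclic_le {G : Type u} [Group G] [Finite G] (ih : Below.{u} (Nat.card G))
    (hrad : ∀ N : Subgroup G, N.Normal → Group.IsSolvable N → N = ⊥) (hsol : ¬ Group.IsSolvable G)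
    {A B : Subgroup G} (hA : IsCyclic A) (hB : IsZGroup B)
    (hAB : ∀ g : G, ∃ a ∈ A, ∃ b ∈ B, g = a * b) (K : Subgroup G) [K.Normal] (hAK : A ≤ K)
    (hq : Group.IsSolvable (G ⧸ K)) : K = ⊤ := by
  by_contra hK
  haveI := hA
  haveI := hB
  have hKs : ¬ Group.IsSolvable K := fun h =>
    hsol ((Group.isSolvable_iff_subgroup_quotient K).2 ⟨h, hq⟩)
  have hfact : HasFact K := by
    refine ⟨A.subgroupOf K, B.subgroupOf K,
      isCyclic_of_injective (subgroupOfEquivOfLe hAK).toMonoidHom (MulEquiv.injective _), ?_,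
      fun g => ?_⟩
    · exact IsZGroup.of_injective (f := (K.subtype.comp (B.subgroupOf K).subtype).codRestrict B
        fun z => z.2) fun x y e => Subtype.ext (Subtype.ext (congrArg (fun z : B => (z : G)) e))
    · obtain ⟨a, ha, b, hb, e⟩ := hAB g
      have hbK : b ∈ K := by
        have : b = a⁻¹ * (g : G) := by rw [e, inv_mul_cancel_left]
        rw [this]; exact mul_mem (inv_mem (hAK ha)) g.2
      exact ⟨⟨a, hAK ha⟩, ha, ⟨b, hbK⟩, hb, Subtype.ext e⟩
  have hKne : K ≠ ⊥ := fun e => hKs (by rw [e]; infer_instance)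
  obtain ⟨R, hRn, hRs, hRmax⟩ := exists_radical K
  have hlt : Nat.card K < Nat.card G :=
    lt_of_le_of_ne K.card_le_card_group fun e => hK (eq_top_of_card_eq _ e)
  have hC := centralizer_ne_bot hrad K hK R hRs (ih K hlt hKs hfact R hRs hRmax) K hKne le_rfl
  set C := centralizer (K : Set G) with hCdef
  haveI : C.Normal := Subgroup.normal_centralizer
  have hCK : C ⊓ K = ⊥ := by
    refine hrad _ (normal_inf_normal C K) (Group.isSolvable_of_comm fun x y => Subtype.ext ?_)
    exact (mem_centralizer_iff.1 x.2.1 y y.2.2).symm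
  refine hC (hrad C inferInstance ?_)
  haveI := hq
  refine Group.isSolvable_of_isSolvable_injective (f := (QuotientGroup.mk' K).comp C.subtype)
    ((injective_iff_map_eq_one _).2 fun c hc => Subtype.ext ?_)
  exact mem_bot.1 (hCK ▸ mem_inf.2 ⟨c.2, (QuotientGroup.eq_one_iff (c : G)).1 hc⟩)

/-- The case of trivial radical. -/
theorem target_of_rad {G : Type u} [Group G] [Finite G] (ih : Below.{u} (Nat.card G))
    (hrad : ∀ N : Subgroup G, N.Normal → Group.IsSolvable N → N = ⊥) (hsol : ¬ Group.IsSolvable G)
    (hfact : HasFact G) : IsTarget G := by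
  classical
  obtain ⟨A, B, hA, hB, hAB⟩ := hfact
  haveI := hA
  haveI := hB
  have hBtop : B ≠ ⊤ := fun e => hsol (by
    haveI : IsZGroup (⊤ : Subgroup G) := e ▸ hB
    haveI : IsZGroup G := IsZGroup.of_injective (f := (topEquiv (G := G)).symm.toMonoidHom)
      (topEquiv (G := G)).symm.injective
    infer_instance)
  obtain ⟨M, hM, hBM⟩ := (eq_top_or_exists_le_coatom B).resolve_left hBtop
  have hcore := normalCore_eq_bot ih hrad hA hB hAB hBM hM.1
  set Ω := G ⧸ M with hΩ
  haveI : Fintype Ω := Fintype.ofFinite Ω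
  have hker : (toPermHom G Ω).ker = ⊥ := by rw [← hcore, normalCore_eq_ker]
  haveI : FaithfulSMul G Ω := ⟨fun {g h} hgh => by
    have h1 : g⁻¹ * h ∈ (toPermHom G Ω).ker := Equiv.ext fun p => by
      show (g⁻¹ * h) • p = p
      rw [mul_smul, ← hgh p, inv_smul_smul]
    rw [hker, mem_bot, inv_mul_eq_one] at h1
    exact h1⟩
  letI := IsCyclic.commGroup (α := A)
  have hfree : ∀ x : A, ∀ p : Ω, (x : G) • p = p → x = 1 := by
    intro x p hp
    refine Subtype.ext ?_
    show (x : G) = 1
    refine FaithfulSMul.eq_of_smul_eq_smul (α := Ω) fun r => ?_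
    rw [one_smul]
    induction r using QuotientGroup.induction_on with
    | H g =>
      induction p using QuotientGroup.induction_on with
      | H h =>
        obtain ⟨a, ha, b, hb, rfl⟩ := hAB g
        obtain ⟨a', ha', b', hb', rfl⟩ := hAB h
        have e1 : ∀ (a : G) (b : G), b ∈ B → ((a * b : G) : Ω) = (a : G) • ((1 : G) : Ω) := fun a b hb => by
          rw [MulAction.Quotient.smul_mk, smul_eq_mul, mul_one, QuotientGroup.eq]
          simpa using inv_mem (hBM hb)
        rw [e1 a b hb]
        rw [e1 a' b' hb'] at hp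
        have hc : ∀ y ∈ A, (x : G) * y = y * x := fun y hy =>
          congrArg Subtype.val (mul_comm x (⟨y, hy⟩ : A))
        have h1 : (x : G) • ((1 : G) : Ω) = ((1 : G) : Ω) := by
          rw [← mul_smul, hc a' ha', mul_smul, smul_left_cancel_iff] at hp
          exact hp
        rw [← mul_smul, hc a ha, mul_smul, h1]
  haveI htrA : IsPretransitive A Ω := by
    have hbase : ∀ r : Ω, ∃ x : A, x • ((1 : G) : Ω) = r := by
      intro r
      induction r using QuotientGroup.induction_on with
      | H g =>
        obtain ⟨a, ha, b, hb, rfl⟩ := hAB g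
        refine ⟨⟨a, ha⟩, ?_⟩
        show ((a * 1 : G) : Ω) = _
        rw [QuotientGroup.eq]
        simpa using hBM hb
    refine ⟨fun p q => ?_⟩
    obtain ⟨x, hx⟩ := hbase p
    obtain ⟨y, hy⟩ := hbase q
    exact ⟨y * x⁻¹, by rw [mul_smul, ← hx, inv_smul_smul, hy]⟩
  have hcardΩ : Nat.card Ω = M.index := (index_eq_card M).symm
  have hM1 : 1 < M.index :=
    Nat.one_lt_iff_ne_zero_and_ne_one.2 ⟨index_ne_zero_of_finite, fun e => hM.1 (index_eq_one.1 e)⟩
  haveI : Nontrivial Ω := Finite.one_lt_card_iff_nontrivial.1 (by omega)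
  have hstab : stabilizer G ((1 : G) : Ω) = M := by
    ext g
    rw [mem_stabilizer_iff, MulAction.Quotient.smul_mk, smul_eq_mul, mul_one, QuotientGroup.eq,
      mul_one, inv_mem_iff]
  have hprim : IsPreprimitive G Ω := (isCoatom_stabilizer_iff_preprimitive G _).1 (hstab.symm ▸ hM)
  have hn3 : 3 ≤ Nat.card Ω := by
    by_contra hlt
    refine hsol ?_
    have h2 : Nat.card Ω = 2 := by omega
    haveI : Group.IsSolvable (Equiv.Perm Ω) := by
      have hc : Nat.card (Equiv.Perm Ω) = 2 := by
        rw [Nat.card_perm, h2]; rfl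
      haveI := Fact.mk Nat.prime_two
      haveI := isCyclic_of_prime_card hc
      exact Group.isSolvable_of_comm fun x y =>
        (IsCyclic.commGroup (α := Equiv.Perm Ω)).mul_comm x y
    exact Group.isSolvable_of_isSolvable_injective (f := toPermHom G Ω)
      ((MonoidHom.ker_eq_bot_iff _).1 hker)
  have h2 := two_transitive hprim hsol A hA htrA (fun p => eq_bot_iff.2 fun x hx =>
    mem_bot.2 (hfree x p hx)) (by omega)
  -- `M` is the Z-group factor
  have hMB : M = B := le_antisymm (fun g hg => by
    obtain ⟨a, ha, b, hb, rfl⟩ := hAB g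
    have haM : a ∈ M := by
      have := mul_mem hg (inv_mem (hBM hb))
      rwa [mul_inv_cancel_right] at this
    have : (⟨a, ha⟩ : A) = 1 := hfree _ ((1 : G) : Ω) (hstab.ge haM)
    rw [show a = 1 from congrArg Subtype.val this, one_mul]
    exact hb) hBM
  have S : Setting G Ω A := by
    refine ⟨fun g hg => ?_, hA, fun p q => ?_, fun h h' => ?_, fun p => ?_, hrad,
      fun K _ hAK hq => eq_top_of_cyclic_le ih hrad hsol hA hB hAB K hAK hq, hn3⟩
    · exact FaithfulSMul.eq_of_smul_eq_smul (α := Ω) fun r => by rw [hg, one_smul]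
    · obtain ⟨x, hx⟩ := MulAction.exists_smul_eq A p q
      refine ⟨x, hx, fun y hy => ?_⟩
      refine (inv_mul_eq_one.1 (hfree (x⁻¹ * y) p ?_)).symm
      show ((x⁻¹ * y : A) : G) • p = p
      push_cast
      rw [mul_smul, hy, inv_smul_eq_iff]
      exact hx.symm
    · exact is_two_pretransitive_iff.1 h2 h h'
    · induction p using QuotientGroup.induction_on with
      | H g =>
        have hmem : ∀ y : stabilizer G (g : Ω), g⁻¹ * (y : G) * g ∈ B := fun y => by
          refine hMB.le (hstab.le ?_)
          rw [mem_stabilizer_iff, mul_smul, mul_smul, MulAction.Quotient.smul_mk,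
            smul_eq_mul, mul_one, y.2, MulAction.Quotient.smul_mk, smul_eq_mul, inv_mul_cancel]
        exact IsZGroup.of_injective (f := (((MulAut.conj g⁻¹).toMonoidHom).comp
            (stabilizer G (g : Ω)).subtype).codRestrict B fun y => by simpa using hmem y)
          fun y z e => Subtype.ext ((MulAut.conj g⁻¹).injective (congrArg (fun w : B => (w : G)) e))
  exact S.isTarget

theorem below : ∀ n : ℕ, Below.{u} n := by
  intro n
  induction n using Nat.strong_induction_on with
  | _ n ih =>
    intro H _ _ hn hsol hfact R _ hRs hRmax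
    have ihH : Below.{u} (Nat.card H) := ih _ hn
    have hradQ : ∀ N : Subgroup (H ⧸ R), N.Normal → Group.IsSolvable N → N = ⊥ := by
      intro N hN hNs
      set N' := N.comap (QuotientGroup.mk' R) with hN'
      haveI : N'.Normal := Normal.comap hN _
      have hs : Group.IsSolvable N' := by
        haveI := hRs
        haveI := hNs
        haveI : Group.IsSolvable ((QuotientGroup.mk' R).subgroupComap N).ker := by
          refine Group.isSolvable_of_isSolvable_injective
            (f := (N'.subtype.comp ((QuotientGroup.mk' R).subgroupComap N).ker.subtype).codRestrict R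
              fun x => (QuotientGroup.eq_one_iff _).1 (congrArg Subtype.val x.2)) ?_
          exact fun x y e => Subtype.ext (Subtype.ext (congrArg (fun z : R => (z : H)) e))
        exact Group.isSolvable_of_ker_le_range ((QuotientGroup.mk' R).subgroupComap N).ker.subtype
          ((QuotientGroup.mk' R).subgroupComap N) (by rw [range_subtype])
      have hle := hRmax N' inferInstance hs
      refine eq_bot_iff.2 fun x hx => ?_
      obtain ⟨y, rfl⟩ := QuotientGroup.mk_surjective x
      exact mem_bot.2 ((QuotientGroup.eq_one_iff y).2 (hle hx))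
    have hsQ : ¬ Group.IsSolvable (H ⧸ R) := fun h =>
      hsol ((Group.isSolvable_iff_subgroup_quotient R).2 ⟨hRs, h⟩)
    have hfQ : HasFact (H ⧸ R) :=
      hfact.of_surjective (QuotientGroup.mk' R) (QuotientGroup.mk'_surjective R)
    refine target_of_rad (fun K _ _ hK => ihH K (lt_of_lt_of_le hK ?_)) hradQ hsQ hfQ
    exact Nat.card_le_card_of_surjective _ (QuotientGroup.mk'_surjective R)

end Cfsg.Agent.CyclicZ
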