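import Cfsg.Agent.CyclicZ.TwoGen

/-!
In a group without solvable normal subgroups, a maximal subgroup containing the Z-factor of a
cyclic times Z-group factorisation is core-free.
-/

set_option autoImplicit false
set_option linter.style.haveILetI false

namespace Cfsg.Agent.CyclicZ

open Subgroup

universe u

/-- A factorisation into a cyclic group and a Z-group. -/
def HasFact (G : Type*) [Group G] : Prop :=
  ∃ A B : Subgroup G, IsCyclic A ∧ IsZGroup B ∧ ∀ g : G, ∃ a ∈ A, ∃ b ∈ B, g = a * b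

theorem HasFact.of_surjective {G H : Type*} [Group G] [Finite G] [Group H] (h : HasFact G)
    (f : G →* H) (hf : Function.Surjective f) : HasFact H := by
  obtain ⟨A, B, hA, hB, hAB⟩ := h
  haveI := hA
  haveI := hB
  refine ⟨A.map f, B.map f, isCyclic_of_surjective (f.subgroupMap A) (f.subgroupMap_surjective A),
    IsZGroup.of_surjective (f := f.subgroupMap B) (f.subgroupMap_surjective B), fun x => ?_⟩
  obtain ⟨g, rfl⟩ := hf x
  obtain ⟨a, ha, b, hb, rfl⟩ := hAB g
  exact ⟨f a, mem_map_of_mem f ha, f b, mem_map_of_mem f hb, map_mul f a b⟩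

theorem hasFact_of_le {G : Type*} [Group G] {A B M : Subgroup G} (hA : IsCyclic A)
    (hB : IsZGroup B) (hAB : ∀ g : G, ∃ a ∈ A, ∃ b ∈ B, g = a * b) (hBM : B ≤ M) : HasFact M := by
  haveI := hA
  haveI := hB
  refine ⟨A.subgroupOf M, B.subgroupOf M, ?_, ?_, fun g => ?_⟩
  · exact isCyclic_of_injective (M.subtype.subgroupComap A) fun x y e =>
      Subtype.ext (Subtype.ext (congrArg (fun z : A => (z : G)) e))
  · exact IsZGroup.of_injective (f := (subgroupOfEquivOfLe hBM).toMonoidHom) (MulEquiv.injective _)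
  · obtain ⟨a, ha, b, hb, e⟩ := hAB g
    have haM : a ∈ M := by
      have : a = (g : G) * b⁻¹ := by rw [e, mul_inv_cancel_right]
      rw [this]; exact mul_mem g.2 (inv_mem (hBM hb))
    exact ⟨⟨a, haM⟩, ha, ⟨b, hBM hb⟩, hb, Subtype.ext e⟩

/-- The conclusion for all groups of smaller order. -/
def Below (n : ℕ) : Prop :=
  ∀ (H : Type u) [Group H] [Finite H], Nat.card H < n → ¬ Group.IsSolvable H → HasFact H →
    ∀ (R : Subgroup H) [R.Normal], Group.IsSolvable R →
      (∀ N : Subgroup H, N.Normal → Group.IsSolvable N → N ≤ R) → IsTarget (H ⧸ R)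

variable {G : Type u} [Group G] [Finite G]

/-- Without solvable normal subgroups, normal subgroups have no solvable normal subgroups. -/
theorem eq_bot_in_normal (hrad : ∀ N : Subgroup G, N.Normal → Group.IsSolvable N → N = ⊥)
    {N : Subgroup G} [hN : N.Normal] {S : Subgroup G} (hSN : S ≤ N) (hS : Group.IsSolvable S)
    (hn : ∀ x ∈ N, ∀ s ∈ S, x * s * x⁻¹ ∈ S) : S = ⊥ := by
  obtain ⟨R, hRn, hRs, hRmax⟩ := exists_radical N
  have hR : R.map N.subtype = ⊥ := by
    refine hrad _ ⟨fun y hy g => ?_⟩ (isSolvable_map _ hRs)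
    obtain ⟨r, hr, rfl⟩ := hy
    haveI : (R.map (MulAut.conjNormal g : MulAut N).toMonoidHom).Normal :=
      hRn.map _ (MulAut.conjNormal g : MulAut N).surjective
    have hm := hRmax (R.map (MulAut.conjNormal g : MulAut N).toMonoidHom) inferInstance
      (isSolvable_map _ hRs) (mem_map_of_mem _ hr)
    exact ⟨_, hm, MulAut.conjNormal_apply g r⟩
  haveI : (S.subgroupOf N).Normal := ⟨fun s hs x => hn x x.2 s hs⟩
  have hle : S.subgroupOf N ≤ R :=
    hRmax _ inferInstance (Group.isSolvable_of_isSolvable_injective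
      (f := (subgroupOfEquivOfLe hSN).toMonoidHom) (MulEquiv.injective _))
  rw [map_eq_bot_iff_of_injective _ N.subtype_injective] at hR
  rw [hR, le_bot_iff, subgroupOf_eq_bot] at hle
  exact eq_bot_iff.2 fun s hs => hle.le_bot ⟨hs, hSN hs⟩

/-- The socle inside a normal subgroup contained in a subgroup with a `PGL₂` quotient. -/
theorem exists_socle (hrad : ∀ N : Subgroup G, N.Normal → Group.IsSolvable N → N = ⊥)
    (H : Subgroup G) (R : Subgroup H) [R.Normal] (hR : Group.IsSolvable R) (hT : IsTarget (H ⧸ R))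
    (N : Subgroup G) [hN : N.Normal] (hN1 : N ≠ ⊥) (hNH : N ≤ H) :
    (centralizer (N : Set G)).subgroupOf H ≤ R ∧
      ∃ T : Subgroup G, T.Normal ∧ centralizer (T : Set G) = centralizer (N : Set G) ∧
        Nat.card (MulAut T) ≤ Nat.card (H ⧸ R) := by
  obtain ⟨T₀, hT₀⟩ := hT.exists_isLike
  haveI := hT₀.normal
  haveI := hT₀.simple
  set π : H →* H ⧸ R := QuotientGroup.mk' R with hπ
  set N' := N.subgroupOf H with hN'
  -- `N` embeds in the quotient
  have hdisj : N' ⊓ R = ⊥ := by
    have h : (N' ⊓ R).map H.subtype = ⊥ := by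
      refine eq_bot_in_normal hrad (N := N) ?_ (isSolvable_map _ (isSolvable_of_le inf_le_right hR)) ?_
      · rintro _ ⟨x, hx, rfl⟩; exact hx.1
      · rintro x hx _ ⟨y, hy, rfl⟩
        refine ⟨⟨x, hNH hx⟩ * y * ⟨x, hNH hx⟩⁻¹, ⟨?_, ?_⟩, rfl⟩
        · show x * (y : G) * x⁻¹ ∈ N
          exact hN.conj_mem _ hy.1 x
        · exact Normal.conj_mem inferInstance y hy.2 _
    exact (map_eq_bot_iff_of_injective _ H.subtype_injective).1 h
  have hinj : ∀ x ∈ N', π x = 1 → x = 1 := fun x hx e =>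
    mem_bot.1 (hdisj ▸ ⟨hx, (QuotientGroup.eq_one_iff x).1 e⟩)
  haveI : (N'.map π).Normal := Normal.map inferInstance π (QuotientGroup.mk'_surjective R)
  have hT₀N : T₀ ≤ N'.map π := hT₀.le_of_normal fun e => hN1 (eq_bot_iff.2 fun x hx => by
    have h1 : (⟨x, hNH hx⟩ : H) = 1 := hinj _ hx (mem_bot.1 (e ▸ mem_map_of_mem π
      (show (⟨x, hNH hx⟩ : H) ∈ N' from hx)))
    exact congrArg Subtype.val h1)
  have hcN : (centralizer (N : Set G)).subgroupOf H ≤ R := by
    intro c hc
    rw [← QuotientGroup.eq_one_iff, ← mem_bot, ← hT₀.cent, mem_centralizer_iff]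
    intro t ht
    obtain ⟨x, hx, rfl⟩ := hT₀N ht
    show π x * π c = π c * π x
    rw [← map_mul, ← map_mul]
    congr 1
    exact Subtype.ext (mem_centralizer_iff.1 hc x hx)
  -- the preimage of the socle
  set T' := N' ⊓ T₀.comap π with hT'
  have hTmap : T'.map π = T₀ := by
    refine le_antisymm ?_ fun t ht => ?_
    · rintro _ ⟨x, hx, rfl⟩; exact hx.2
    · obtain ⟨x, hx, rfl⟩ := hT₀N ht
      exact ⟨x, ⟨hx, ht⟩, rfl⟩
  let ψ : T' →* T₀ := (π.comp T'.subtype).codRestrict T₀ fun x => x.2.2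
  have hψ : Function.Bijective ψ := by
    refine ⟨(injective_iff_map_eq_one _).2 fun x hx => Subtype.ext
      (hinj x x.2.1 (congrArg Subtype.val hx)), fun t => ?_⟩
    obtain ⟨x, hx, e⟩ := hTmap.ge t.2
    exact ⟨⟨x, hx⟩, Subtype.ext e⟩
  set T := T'.map H.subtype with hTdef
  let eT : T ≃* T₀ :=
    (T'.equivMapOfInjective H.subtype H.subtype_injective).symm.trans (MulEquiv.ofBijective ψ hψ)
  haveI : IsSimpleGroup T := eT.isSimpleGroup
  have hTne : T ≠ ⊥ := fun e => hT₀.notSolvable (by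
    have : Group.IsSolvable T := by rw [e]; infer_instance
    exact Group.isSolvable_of_surjective (f := eT.toMonoidHom) eT.surjective)
  have hTN : T ≤ N := by rintro _ ⟨x, hx, rfl⟩; exact hx.1
  haveI hTnN : ∀ x ∈ N, ∀ t ∈ T, x * t * x⁻¹ ∈ T := by
    rintro x hx _ ⟨y, hy, rfl⟩
    refine ⟨⟨x, hNH hx⟩ * y * ⟨x, hNH hx⟩⁻¹, ⟨?_, ?_⟩, rfl⟩
    · show x * (y : G) * x⁻¹ ∈ N
      exact hN.conj_mem _ hy.1 x
    · show π (⟨x, hNH hx⟩ * y * ⟨x, hNH hx⟩⁻¹) ∈ T₀
      rw [map_mul, map_mul, map_inv]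
      exact Normal.conj_mem inferInstance _ hy.2 _
  have hcent : ∀ c ∈ centralizer (T : Set G), c ∈ N → c = 1 := by
    intro c hc hcn
    have h1 : (⟨c, hNH hcn⟩ : H) = 1 := hinj _ hcn (mem_bot.1 (hT₀.cent ▸ mem_centralizer_iff.2
      fun t ht => by
        obtain ⟨x, hx, rfl⟩ := hTmap.ge ht
        show π x * π ⟨c, hNH hcn⟩ = π ⟨c, hNH hcn⟩ * π x
        rw [← map_mul, ← map_mul]
        congr 1
        exact Subtype.ext (mem_centralizer_iff.1 hc x ⟨x, hx, rfl⟩)))
    exact congrArg Subtype.val h1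
  have hTn : T.Normal := by
    refine ⟨fun t ht g => ?_⟩
    set U := T.map (MulAut.conj g).toMonoidHom with hU
    have hUN : U ≤ N := by
      rintro _ ⟨x, hx, rfl⟩; exact hN.conj_mem x (hTN hx) g
    have hUn : ∀ x ∈ N, ∀ z ∈ U, x * z * x⁻¹ ∈ U := by
      rintro x hx _ ⟨y, hy, rfl⟩
      refine ⟨g⁻¹ * x * g * y * (g⁻¹ * x * g)⁻¹, hTnN _ (by simpa using hN.conj_mem x hx g⁻¹) y hy, ?_⟩
      simp [mul_assoc]
    haveI : (U.subgroupOf T).Normal := ⟨fun z hz x => hUn x (hTN x.2) z hz⟩
    rcases IsSimpleGroup.eq_bot_or_eq_top_of_normal (U.subgroupOf T) inferInstance with hb | htop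
    · exfalso
      rw [subgroupOf_eq_bot] at hb
      refine hTne (eq_bot_iff.2 fun y hy => ?_)
      have hyU : (MulAut.conj g).toMonoidHom y ∈ U := mem_map_of_mem _ hy
      have h1 : (MulAut.conj g).toMonoidHom y = 1 := by
        refine hcent _ (mem_centralizer_iff.2 fun t' ht' => ?_) (hUN hyU)
        set z := (MulAut.conj g).toMonoidHom y with hz
        have hm : t' * z * t'⁻¹ * z⁻¹ = 1 := by
          refine mem_bot.1 (hb.le_bot (mem_inf.2 ⟨?_, ?_⟩))
          · exact mul_mem (hUn t' (hTN ht') z hyU) (inv_mem hyU)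
          · rw [mul_assoc, mul_assoc]
            refine T.mul_mem ht' ?_
            rw [← mul_assoc]
            exact hTnN z (hUN hyU) _ (T.inv_mem ht')
        rw [mul_inv_eq_one, mul_inv_eq_iff_eq_mul] at hm
        exact hm
      exact (MulEquiv.map_eq_one_iff (MulAut.conj g)).1 h1
    · rw [subgroupOf_eq_top] at htop
      have e : T = U := eq_of_le_of_card_ge htop
        (by rw [hU, card_map_of_injective (MulAut.conj g).injective])
      rw [e]
      exact ⟨t, ht, by simp⟩
  haveI := hTn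
  refine ⟨hcN, T, hTn, le_antisymm ?_ (centralizer_le hTN), ?_⟩
  · haveI : (centralizer (T : Set G)).Normal := Subgroup.normal_centralizer
    have hd : Disjoint (centralizer (T : Set G)) N :=
      disjoint_iff.2 (eq_bot_iff.2 fun c hc => hcent c hc.1 hc.2)
    intro c hc
    exact mem_centralizer_iff.2 fun n hn =>
      (Subgroup.commute_of_normal_of_disjoint _ N inferInstance hN hd c n hc hn).symm
  · rw [Nat.card_congr (MulAut.congr eT).toEquiv]
    exact hT₀.aut

/-- The kernel of the action on a normal subgroup has index at most the order of its automorphism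
group. -/
theorem index_centralizer_le (T : Subgroup G) [T.Normal] :
    (centralizer (T : Set G)).index ≤ Nat.card (MulAut T) := by
  have hker : (MulAut.conjNormal : G →* MulAut T).ker = centralizer (T : Set G) := by
    ext g
    simp only [MonoidHom.mem_ker, MulEquiv.ext_iff, Subtype.ext_iff, MulAut.conjNormal_apply,
      MulAut.one_apply, mem_centralizer_iff, SetLike.mem_coe, Subtype.forall]
    exact forall₂_congr fun t _ => by rw [mul_inv_eq_iff_eq_mul, eq_comm]
  rw [← hker, index_ker]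
  exact card_le_card_group _

/-- A normal subgroup in a proper subgroup with a `PGL₂` quotient has nontrivial centraliser. -/
theorem centralizer_ne_bot (hrad : ∀ N : Subgroup G, N.Normal → Group.IsSolvable N → N = ⊥)
    (H : Subgroup G) (hH : H ≠ ⊤) (R : Subgroup H) [R.Normal] (hR : Group.IsSolvable R)
    (hT : IsTarget (H ⧸ R)) (N : Subgroup G) [N.Normal] (hN1 : N ≠ ⊥) (hNH : N ≤ H) :
    centralizer (N : Set G) ≠ ⊥ := by
  intro hC
  obtain ⟨-, T, hTn, hTc, hTa⟩ := exists_socle hrad H R hR hT N hN1 hNH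
  have h := (index_centralizer_le T).trans hTa
  rw [hTc, hC, index_bot] at h
  refine hH (eq_top_of_card_eq _ (le_antisymm H.card_le_card_group (h.trans ?_)))
  exact Nat.card_le_card_of_surjective _ (QuotientGroup.mk'_surjective R)

/-- **The maximal subgroups containing the Z-factor are core-free.** -/
theorem normalCore_eq_bot (ih : Below.{u} (Nat.card G))
    (hrad : ∀ N : Subgroup G, N.Normal → Group.IsSolvable N → N = ⊥) {A B M : Subgroup G}
    (hA : IsCyclic A) (hB : IsZGroup B) (hAB : ∀ g : G, ∃ a ∈ A, ∃ b ∈ B, g = a * b)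
    (hBM : B ≤ M) (hM : M ≠ ⊤) : M.normalCore = ⊥ := by
  by_contra hK
  set K := M.normalCore with hKdef
  have hKn : K.Normal := Subgroup.normalCore_normal M
  have hKM : K ≤ M := normalCore_le M
  have hMs : ¬ Group.IsSolvable M := fun h => hK (hrad K hKn (isSolvable_of_le hKM h))
  have hMlt : Nat.card M < Nat.card G :=
    lt_of_le_of_ne M.card_le_card_group fun e => hM (eq_top_of_card_eq _ e)
  obtain ⟨R, hRn, hRs, hRmax⟩ := exists_radical M
  have hT := ih M hMlt hMs (hasFact_of_le hA hB hAB hBM) R hRs hRmax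
  obtain ⟨hcR, T, hTn, hTc, hTa⟩ := exists_socle hrad M R hRs hT K hK hKM
  set C := centralizer (K : Set G) with hC
  haveI hCn : C.Normal := Subgroup.normal_centralizer
  have hCne : C ≠ ⊥ := centralizer_ne_bot hrad M hM R hRs hT K hK hKM
  have hCK : ∀ c ∈ C, c ∈ K → c = 1 := by
    have hs : Group.IsSolvable (C ⊓ K : Subgroup G) := by
      have hle : (C ⊓ K).subgroupOf M ≤ R := fun c hc => hcR hc.1
      haveI := isSolvable_of_le hle hRs
      exact Group.isSolvable_of_surjective
        (f := (subgroupOfEquivOfLe (inf_le_right.trans hKM : C ⊓ K ≤ M)).toMonoidHom)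
        (MulEquiv.surjective _)
    intro c hc hk
    exact mem_bot.1 (hrad _ (normal_inf_normal C K) hs ▸ ⟨hc, hk⟩)
  -- the second quotient
  have hQs : ¬ Group.IsSolvable (G ⧸ K) := fun h => hCne (hrad C hCn
    (haveI := h; Group.isSolvable_of_isSolvable_injective
      (f := (QuotientGroup.mk' K).comp C.subtype) ((injective_iff_map_eq_one _).2 fun c hc =>
        Subtype.ext (hCK c c.2 ((QuotientGroup.eq_one_iff (c : G)).1 hc)))))
  obtain ⟨R₂, hR₂n, hR₂s, hR₂max⟩ := exists_radical (G ⧸ K)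
  have hQlt : Nat.card (G ⧸ K) < Nat.card G := by
    rw [K.card_eq_card_quotient_mul_card_subgroup]
    exact (Nat.lt_mul_iff_one_lt_right Nat.card_pos).2 ((one_lt_card_iff_ne_bot K).2 hK)
  have hT₂ := ih (G ⧸ K) hQlt hQs
    (HasFact.of_surjective ⟨A, B, hA, hB, hAB⟩ (QuotientGroup.mk' K) (QuotientGroup.mk'_surjective K))
    R₂ hR₂s hR₂max
  obtain ⟨T₂, hT₂l⟩ := hT₂.exists_isLike
  -- the first quotient
  let f := (QuotientGroup.mk' C).comp M.subtype
  have hfker : f.ker ≤ R := fun x hx => hcR ((QuotientGroup.eq_one_iff (x : G)).1 hx)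
  have h1 : Nat.card f.range ≤ Nat.card (G ⧸ C) := card_le_card_group _
  have h2 : Nat.card (G ⧸ C) ≤ Nat.card (M ⧸ R) := by
    rw [← index_eq_card, ← hTc]
    exact (index_centralizer_le T).trans hTa
  have h3 : Nat.card f.range = f.ker.index := (index_ker f).symm
  have h4 : R.index ∣ f.ker.index := index_dvd_of_le hfker
  rw [← index_eq_card] at h2
  have h5 : f.ker.index = R.index :=
    le_antisymm (h3 ▸ h1.trans h2) (Nat.le_of_dvd (Nat.pos_of_ne_zero index_ne_zero_of_finite) h4)
  have hkerR : f.ker = R := eq_of_le_of_card_ge hfker (le_of_eq (by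
    have a1 := R.card_mul_index; have a2 := f.ker.card_mul_index
    rw [h5] at a2
    exact Nat.eq_of_mul_eq_mul_right (Nat.pos_of_ne_zero index_ne_zero_of_finite) (a1.trans a2.symm)))
  have hfs : Function.Surjective f := MonoidHom.range_eq_top.1
    (eq_top_of_card_eq _ (le_antisymm h1 (h2.trans (by rw [h3, h5, index_eq_card R]))))
  have hT₁ : IsTarget (G ⧸ C) := by
    obtain ⟨p, hp, hp3, ⟨e⟩⟩ := hT
    exact ⟨p, hp, hp3, ⟨((QuotientGroup.quotientKerEquivOfSurjective f hfs).symm.trans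
      (QuotientGroup.quotientMulEquivOfEq hkerR)).trans e⟩⟩
  obtain ⟨T₁, hT₁l⟩ := hT₁.exists_isLike
  let g₂ : G →* (G ⧸ K) ⧸ R₂ := (QuotientGroup.mk' R₂).comp (QuotientGroup.mk' K)
  have hg₂ : Function.Surjective g₂ :=
    (QuotientGroup.mk'_surjective R₂).comp (QuotientGroup.mk'_surjective K)
  have hCL : C ⊓ g₂.ker = ⊥ := by
    refine hrad _ (normal_inf_normal C g₂.ker) ?_
    let φ : (C ⊓ g₂.ker : Subgroup G) →* R₂ :=
      ((QuotientGroup.mk' K).comp (Subgroup.subtype _)).codRestrict R₂ fun x =>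
        (QuotientGroup.eq_one_iff _).1 x.2.2
    haveI := hR₂s
    exact Group.isSolvable_of_isSolvable_injective (f := φ) ((injective_iff_map_eq_one _).2
      fun x hx => Subtype.ext (hCK x x.2.1 ((QuotientGroup.eq_one_iff (x : G)).1
        (congrArg Subtype.val hx))))
  haveI := hA
  haveI := hB
  obtain ⟨S, x, y, hgen⟩ := exists_sylow_two_gen A B hA hAB
  refine two_quotients_false hT₁l hT₂l (QuotientGroup.mk' C) (QuotientGroup.mk'_surjective C) g₂ hg₂
    ?_ S x y hgen
  rw [QuotientGroup.ker_mk']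
  intro hle
  exact hCne (by rw [← hCL, inf_eq_left.2 hle])

end Cfsg.Agent.CyclicZ
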