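import Mathlib

/-!
Signs of semiregular permutations and of involutions, and the vanishing of homomorphisms that are
trivial on a point stabiliser of a doubly transitive action.
-/

set_option autoImplicit false
set_option linter.style.haveILetI false

namespace Cfsg.Agent.CyclicZ

open Equiv Equiv.Perm

variable {α : Type*} [Fintype α] [DecidableEq α]

theorem cycleType_replicate_of_semiregular {σ : Perm α} {k : ℕ} (hk : 0 < k) (hpow : σ ^ k = 1)
    (hmov : ∀ i, 0 < i → i < k → ∀ x, σ x ≠ x → (σ ^ i) x ≠ x) :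
    σ.cycleType = Multiset.replicate σ.cycleType.card k := by
  refine Multiset.eq_replicate_card.2 fun l hl => ?_
  rw [cycleType_def, Multiset.mem_map] at hl
  obtain ⟨c, hc, rfl⟩ := hl
  rw [← Finset.mem_def] at hc
  have hcyc := (mem_cycleFactorsFinset_iff.1 hc).1
  obtain ⟨x, hx⟩ := hcyc.nonempty_support
  have hco : c = σ.cycleOf x := cycle_is_cycleOf hx hc
  have hxs : σ x ≠ x := Perm.mem_support.1 (mem_cycleFactorsFinset_support_le hc hx)
  have hdvd : orderOf c ∣ k := orderOf_dvd_of_pow_eq_one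
    ((hcyc.pow_eq_one_iff' (Perm.mem_support.1 hx)).2 (by
      rw [hco, cycleOf_pow_apply_self, hpow, Perm.one_apply]))
  have h2 : (σ ^ orderOf c) x = x := by
    rw [← cycleOf_pow_apply_self, ← hco, pow_orderOf_eq_one, Perm.one_apply]
  show c.support.card = k
  rw [← hcyc.orderOf]
  refine le_antisymm (Nat.le_of_dvd hk hdvd) (not_lt.1 fun h => ?_)
  exact hmov _ (orderOf_pos c) h x hxs h2

/-- A semiregular permutation with an odd number of cycles of even length is odd. -/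
theorem sign_semiregular_of_even {σ : Perm α} {k : ℕ} (hk : Even k) (hk0 : 0 < k)
    (hpow : σ ^ k = 1) (hfree : ∀ i, 0 < i → i < k → ∀ x, (σ ^ i) x ≠ x)
    (hodd : Odd (Fintype.card α / k)) : Perm.sign σ = -1 := by
  have h1 : 1 < k := by obtain ⟨j, rfl⟩ := hk; omega
  have hfix : IsEmpty (Function.fixedPoints σ) :=
    ⟨fun x => hfree 1 one_pos h1 x.1 (by rw [pow_one]; exact x.2)⟩
  rw [sign_of_cycleType_eq_replicate hk0
    (cycleType_replicate_of_semiregular hk0 hpow fun i h0 h x _ => hfree i h0 h x),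
    if_neg (Nat.not_odd_iff_even.2 hk), Fintype.card_eq_zero (α := Function.fixedPoints σ), Nat.sub_zero, hodd.neg_one_pow]

theorem units_int_eq_one_of_odd_order {G : Type*} [Monoid G] (f : G →* ℤˣ) (g : G)
    (h : Odd (orderOf g)) : f g = 1 := by
  rcases Int.units_eq_one_or (f g) with e | e
  · exact e
  · have h1 : f g ^ orderOf g = 1 := by rw [← map_pow, pow_orderOf_eq_one, map_one]
    rw [e, h.neg_one_pow] at h1
    exact absurd h1 (by decide)

/-- A homomorphism on a doubly transitive group that is trivial on a point stabiliser is trivial. -/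
theorem hom_eq_one {H Ω M : Type*} [Group H] [MulAction H Ω] [Group M] {a b c : Ω} {Δ : Set Ω}
    (f : H →* M) (hΔ : ∀ h : H, ∀ p ∈ Δ, h • p ∈ Δ) (haΔ : a ∈ Δ) (hb : b ∈ Δ) (hc : c ∈ Δ)
    (hba : b ≠ a) (hca : c ≠ a) (hbc : b ≠ c)
    (htr : ∀ p ∈ Δ, ∀ q ∈ Δ, p ≠ a → q ≠ a → ∃ h : H, h • a = a ∧ h • p = q)
    (hmove : ∃ h : H, h • a ≠ a) (hst : ∀ h : H, h • a = a → f h = 1) (h : H) : f h = 1 := by
  obtain ⟨h₀, hh₀⟩ := hmove
  have key : ∀ g : H, g • a ≠ a → f g = f h₀ := by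
    intro g hg
    obtain ⟨k, hka, hk⟩ := htr (h₀ • a) (hΔ h₀ a haΔ) (g • a) (hΔ g a haΔ) hh₀ hg
    have hfix : ((k * h₀)⁻¹ * g) • a = a := by
      rw [mul_smul, inv_smul_eq_iff, mul_smul, hk]
    have := hst _ hfix
    rwa [map_mul, map_inv, map_mul, hst k hka, one_mul, inv_mul_eq_one, eq_comm] at this
  by_contra hne
  have he : f h₀ ≠ 1 := by
    intro e
    by_cases hg : h • a = a
    · exact hne (hst h hg)
    · exact hne ((key h hg).trans e)
  set r := h₀⁻¹ • a with hr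
  have hra : r ≠ a := fun e => hh₀ (by rw [hr, inv_smul_eq_iff] at e; exact e.symm)
  obtain ⟨r', hr'Δ, hr'a, hr'⟩ : ∃ r' ∈ Δ, r' ≠ a ∧ r' ≠ r := by
    by_cases hrb : b = r
    · exact ⟨c, hc, hca, fun e => hbc (hrb.trans e.symm)⟩
    · exact ⟨b, hb, hba, hrb⟩
  obtain ⟨k, hka, hk⟩ := htr r (hΔ h₀⁻¹ a haΔ) r' hr'Δ hra hr'a
  have h1 : f (h₀ * k * h₀⁻¹) = 1 := by
    rw [map_mul, map_mul, map_inv, hst k hka, mul_one, mul_inv_cancel]
  have h2 : (h₀ * k * h₀⁻¹) • a = a := by
    by_contra hg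
    exact he ((key _ hg).symm.trans h1)
  rw [mul_smul, mul_smul, ← hr, hk, smul_eq_iff_eq_inv_smul, ← hr] at h2
  exact hr' h2

end Cfsg.Agent.CyclicZ
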