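import Cfsg.Agent.CyclicZ.Perm
import Cfsg.Agent.Zassenhaus.Basic

/-!
A doubly transitive group with a regular cyclic subgroup whose point stabilisers are Z-groups: the
degree is even and the derived group of a point stabiliser is a regular cyclic group on the other
points, the two-point stabilisers being cyclic of even order.
-/

set_option autoImplicit false
set_option linter.style.haveILetI false
set_option linter.unusedSectionVars false

namespace Cfsg.Agent.CyclicZ

open Subgroup MulAction

/-- In a cyclic group the elements of exponent dividing the order of `x` are powers of `x`. -/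
theorem mem_zpowers_of_pow_eq_one {C : Type*} [Group C] [Finite C] [IsCyclic C] {x y : C}
    (h : y ^ orderOf x = 1) : y ∈ zpowers x := by
  classical
  haveI := Fintype.ofFinite C
  set s := Finset.univ.filter fun a : C => a ^ orderOf x = 1 with hs
  set t := Finset.univ.filter fun a : C => a ∈ zpowers x with ht
  have hts : t ⊆ s := fun a ha => by
    obtain ⟨i, rfl⟩ := mem_zpowers_iff.1 (Finset.mem_filter.1 ha).2
    refine Finset.mem_filter.2 ⟨Finset.mem_univ _, ?_⟩
    rw [← zpow_natCast, ← zpow_mul, mul_comm, zpow_mul, zpow_natCast, pow_orderOf_eq_one, one_zpow]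
  have hcard : s.card ≤ t.card := by
    refine (IsCyclic.card_pow_eq_one_le (orderOf_pos x)).trans (le_of_eq ?_)
    rw [← Nat.card_zpowers, Nat.card_eq_fintype_card]
    exact Fintype.card_subtype _
  have : y ∈ t := by
    rw [Finset.eq_of_subset_of_card_le hts hcard]
    exact Finset.mem_filter.2 ⟨Finset.mem_univ _, h⟩
  exact (Finset.mem_filter.1 this).2

/-- A doubly transitive group with a regular cyclic subgroup, Z-groups as point stabilisers and
without normal subgroups of solvable index containing the cyclic subgroup. -/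
structure Setting (G Ω : Type*) [Group G] [MulAction G Ω] (A : Subgroup G) : Prop where
  faithful : ∀ g : G, (∀ p : Ω, g • p = p) → g = 1
  cyclic : IsCyclic A
  reg : ∀ p q : Ω, ∃! x : A, (x : G) • p = q
  two : ∀ {p q r s : Ω}, p ≠ q → r ≠ s → ∃ g : G, g • p = r ∧ g • q = s
  zgroup : ∀ p : Ω, IsZGroup (stabilizer G p)
  rad : ∀ N : Subgroup G, N.Normal → Group.IsSolvable N → N = ⊥
  noNormal : ∀ (K : Subgroup G) [K.Normal], A ≤ K → Group.IsSolvable (G ⧸ K) → K = ⊤
  three : 3 ≤ Nat.card Ω

variable {G Ω : Type*} [Group G] [Finite G] [MulAction G Ω] [Fintype Ω] [DecidableEq Ω]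
  {A : Subgroup G} (S : Setting G Ω A)

variable (G Ω) in
/-- The sign of the permutation of the points. -/
noncomputable def sgn : G →* ℤˣ := Equiv.Perm.sign.comp (MulAction.toPermHom G Ω)

include S

theorem Setting.transitive : IsPretransitive G Ω :=
  ⟨fun p q => let ⟨x, hx, _⟩ := S.reg p q; ⟨x, hx⟩⟩

theorem Setting.card_A : Nat.card A = Fintype.card Ω := by
  haveI : Nonempty Ω := by
    have := S.three; rw [Nat.card_eq_fintype_card] at this
    exact Fintype.card_pos_iff.1 (by omega)
  obtain ⟨p⟩ := ‹Nonempty Ω›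
  rw [← Nat.card_eq_fintype_card]
  refine Nat.card_eq_of_bijective (fun x : A => (x : G) • p) ⟨fun x y h => ?_, fun q => ?_⟩
  · exact (S.reg p ((y : G) • p)).unique h rfl
  · obtain ⟨x, hx, -⟩ := S.reg p q; exact ⟨x, hx⟩

theorem Setting.semiregular {x : G} (hx : x ∈ A) {p : Ω} (h : x • p = p) : x = 1 := by
  have := (S.reg p p).unique (y₁ := ⟨x, hx⟩) (y₂ := 1) h (one_smul _ _)
  exact congrArg Subtype.val this

theorem Setting.index_stabilizer (p : Ω) : (stabilizer G p).index = Fintype.card Ω := by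
  haveI := S.transitive
  rw [index_stabilizer_of_transitive, Nat.card_eq_fintype_card]

/-- The stabiliser of a point has the other points as an orbit. -/
theorem Setting.card_stabilizer {a b : Ω} (hab : a ≠ b) :
    Nat.card (stabilizer G a) =
      (Fintype.card Ω - 1) * Nat.card (Zassenhaus.twoPt G a b) := by
  have h1 := (MulAction.stabilizer (stabilizer G a) b).index_mul_card
  rw [← h1]
  congr 1
  · have e : orbit (stabilizer G a) b = {q : Ω | q ≠ a} := by
      ext q
      constructor
      · rintro ⟨g, rfl⟩ e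
        have e' : (g : G) • b = a := e
        exact hab (MulAction.injective (g : G) (g.2.trans e'.symm))
      · intro hq
        obtain ⟨g, hga, hgb⟩ := S.two hab (Ne.symm hq)
        exact ⟨⟨g, hga⟩, hgb⟩
    rw [MulAction.index_stabilizer, e, Set.ncard_eq_toFinset_card', ← Finset.card_univ,
      ← Finset.card_erase_of_mem (Finset.mem_univ a)]
    congr 1
    ext q; simp
  · refine Nat.card_congr
      ⟨fun g => ⟨(g.1 : G), ⟨g.1.2, g.2⟩⟩, fun g => ⟨⟨g, g.2.1⟩, g.2.2⟩, fun _ => rfl, fun _ => rfl⟩

/-- A homomorphism to a solvable group that is trivial on the cyclic subgroup is trivial. -/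
theorem Setting.hom_eq_one {P : Type*} [Group P] [Group.IsSolvable P] (f : G →* P)
    (hA : ∀ x ∈ A, f x = 1) : f.ker = ⊤ :=
  S.noNormal f.ker (fun x hx => hA x hx)
    (Group.isSolvable_of_isSolvable_injective (f := QuotientGroup.kerLift f)
      (QuotientGroup.kerLift_injective f))

/-- A Sylow subgroup of order prime to the degree is not centralised by its normaliser. -/
theorem Setting.not_normalizer_le {p : ℕ} [Fact p.Prime] (P : Sylow p G)
    (hp : p ∣ Nat.card G) (hn : ¬ p ∣ Fintype.card Ω)
    (hP : normalizer ((P : Subgroup G) : Set G) ≤ centralizer ((P : Subgroup G) : Set G)) : False := by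
  have hc : IsMulCommutative P := ⟨⟨fun u v => Subtype.ext
    ((mem_centralizer_iff.1 (hP (le_normalizer u.2)) v v.2).symm)⟩⟩
  haveI : Group.IsNilpotent P := P.2.isNilpotent
  have hcomp := MonoidHom.ker_transferSylow_isComplement' P hP
  have hk : (MonoidHom.transferSylow P hP).ker = ⊤ := S.hom_eq_one _ fun x hx => by
    set f := MonoidHom.transferSylow P hP
    obtain ⟨k, hk⟩ := P.2.exists_card_eq
    rw [← orderOf_eq_one_iff]
    refine Nat.eq_one_of_dvd_coprimes (a := p ^ k) (b := Fintype.card Ω) ?_ ?_ ?_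
    · exact Nat.Coprime.pow_left k ((Fact.out : p.Prime).coprime_iff_not_dvd.2 hn)
    · rw [← hk]; exact orderOf_dvd_natCard _
    · rw [← S.card_A]
      exact (orderOf_map_dvd f x).trans (Subgroup.orderOf_dvd_natCard A hx)
  rw [hk, isComplement'_top_left] at hcomp
  exact P.ne_bot_of_dvd_card hp hcomp

theorem Setting.two_dvd_card : 2 ∣ Nat.card G := by
  haveI : Nontrivial Ω := Fintype.one_lt_card_iff_nontrivial.1 (by
    have := S.three; rw [Nat.card_eq_fintype_card] at this; omega)
  obtain ⟨a, b, hab⟩ := exists_pair_ne Ω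
  rw [← (stabilizer G a).card_mul_index, S.index_stabilizer, S.card_stabilizer hab]
  have := S.three
  rw [Nat.card_eq_fintype_card] at this
  rcases Nat.even_or_odd (Fintype.card Ω) with h | h
  · exact dvd_mul_of_dvd_right h.two_dvd _
  · obtain ⟨k, hk⟩ := h
    exact dvd_mul_of_dvd_left (dvd_mul_of_dvd_left ⟨k, by omega⟩ _) _

/-- The degree is even. -/
theorem Setting.even : Even (Fintype.card Ω) := by
  by_contra hodd
  rw [even_iff_two_dvd] at hodd
  haveI := Fact.mk Nat.prime_two
  have := S.three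
  rw [Nat.card_eq_fintype_card] at this
  obtain ⟨a⟩ : Nonempty Ω := Fintype.card_pos_iff.1 (by omega)
  haveI := S.zgroup a
  obtain ⟨Q⟩ := (inferInstance : Nonempty (Sylow 2 (stabilizer G a)))
  have hidx : ¬ 2 ∣ ((Q : Subgroup (stabilizer G a)).map (stabilizer G a).subtype).index := by
    rw [index_map_subtype, S.index_stabilizer]
    exact fun h => (Nat.prime_two.dvd_mul.1 h).elim Q.not_dvd_index hodd
  let P : Sylow 2 G := (Q.2.map (stabilizer G a).subtype).toSylow hidx
  have hPc : IsCyclic P := isCyclic_of_surjective ((Q : Subgroup (stabilizer G a)).equivMapOfInjective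
    (stabilizer G a).subtype (stabilizer G a).subtype_injective).toMonoidHom (MulEquiv.surjective _)
  have hmin : (Nat.card G).minFac = 2 := (Nat.minFac_eq_two_iff _).2 S.two_dvd_card
  exact S.not_normalizer_le P S.two_dvd_card hodd (hPc.normalizer_le_centralizer hmin)

theorem Setting.odd_pred : Odd (Fintype.card Ω - 1) := by
  obtain ⟨k, hk⟩ := S.even
  have := S.three
  rw [Nat.card_eq_fintype_card] at this
  exact ⟨k - 1, by omega⟩

omit S in
/-- The derived group of the stabiliser of a point. -/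
def kerF (G : Type*) {Ω : Type*} [Group G] [MulAction G Ω] (a : Ω) : Subgroup G :=
  (commutator (stabilizer G a)).map (stabilizer G a).subtype

theorem Setting.kerF_le (a : Ω) : kerF G a ≤ stabilizer G a := map_subtype_le _

theorem Setting.kerF_cyclic (a : Ω) : IsCyclic (kerF G a) := by
  haveI := S.zgroup a
  haveI : IsCyclic (commutator (stabilizer G a)) := IsZGroup.isCyclic_commutator _
  exact isCyclic_of_surjective ((commutator (stabilizer G a)).equivMapOfInjective _
    (stabilizer G a).subtype_injective).toMonoidHom (MulEquiv.surjective _)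

theorem Setting.kerF_conj {a : Ω} {g : G} (hg : g • a = a) {u : G} (hu : u ∈ kerF G a) :
    g * u * g⁻¹ ∈ zpowers u := by
  obtain ⟨v, hv, rfl⟩ := hu
  haveI := S.kerF_cyclic a
  have h1 : ((⟨g, hg⟩ : stabilizer G a) * v * (⟨g, hg⟩ : stabilizer G a)⁻¹) ∈
      commutator (stabilizer G a) := Normal.conj_mem inferInstance v hv _
  let x : kerF G a := ⟨_, mem_map_of_mem (stabilizer G a).subtype hv⟩
  let y : kerF G a := ⟨_, mem_map_of_mem (stabilizer G a).subtype h1⟩
  have h2 : y ∈ zpowers x := mem_zpowers_of_pow_eq_one (by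
    apply Subtype.ext
    show (g * (v : G) * g⁻¹) ^ orderOf x = 1
    rw [conj_pow, ← Subgroup.orderOf_coe x]
    show g * (v : G) ^ orderOf (v : G) * g⁻¹ = 1
    rw [pow_orderOf_eq_one, mul_one, mul_inv_cancel])
  obtain ⟨i, hi⟩ := mem_zpowers_iff.1 h2
  exact mem_zpowers_iff.2 ⟨i, congrArg Subtype.val hi⟩

/-- The derived group of a stabiliser is semiregular on the other points. -/
theorem Setting.kerF_semiregular {a b : Ω} (hab : a ≠ b) {u : G} (hu : u ∈ kerF G a)
    (hb : u • b = b) : u = 1 := by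
  refine S.faithful u fun q => ?_
  by_cases hq : q = a
  · rw [hq]; exact S.kerF_le a hu
  obtain ⟨g, hga, hgb⟩ := S.two hab (Ne.symm hq)
  have h1 := S.kerF_conj (g := g⁻¹) (inv_smul_eq_iff.2 hga.symm) hu
  have h2 : zpowers u ≤ stabilizer G b := zpowers_le.2 hb
  have h3 : (g⁻¹ * u * g⁻¹⁻¹) • b = b := h2 h1
  rw [inv_inv, mul_smul, mul_smul, hgb, inv_smul_eq_iff, hgb] at h3
  exact h3

theorem Setting.coprime_index (a : Ω) :
    (Fintype.card Ω - 1).Coprime (commutator (stabilizer G a)).index := by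
  refine Nat.coprime_of_dvd fun r hr hrm hri => ?_
  haveI := Fact.mk hr
  haveI := S.zgroup a
  have h3 := S.three
  rw [Nat.card_eq_fintype_card] at h3
  have hrn : ¬ r ∣ Fintype.card Ω := fun h =>
    hr.not_dvd_one (by
      have := Nat.dvd_sub h hrm
      rwa [show Fintype.card Ω - (Fintype.card Ω - 1) = 1 by omega] at this)
  obtain ⟨R⟩ := (inferInstance : Nonempty (Sylow r (stabilizer G a)))
  have hidx : ¬ r ∣ ((R : Subgroup (stabilizer G a)).map (stabilizer G a).subtype).index := by
    rw [index_map_subtype, S.index_stabilizer]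
    exact fun h => (hr.dvd_mul.1 h).elim R.not_dvd_index hrn
  let P : Sylow r G := (R.2.map (stabilizer G a).subtype).toSylow hidx
  have hPa : ∀ x ∈ (P : Subgroup G), x • a = a := fun x hx => map_subtype_le _ hx
  have hPonly : ∀ q, (∀ x ∈ (P : Subgroup G), x • q = q) → q = a := by
    intro q hq
    by_contra hqa
    have h1 : Nat.card P ∣ Nat.card (Zassenhaus.twoPt G a q) :=
      card_dvd_of_le fun x hx => ⟨hPa x hx, hq x hx⟩
    have h2 := mul_dvd_mul hrm h1
    rw [← S.card_stabilizer (Ne.symm hqa)] at h2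
    have h4 : Nat.card P = Nat.card R := card_map_of_injective (stabilizer G a).subtype_injective
    rw [h4, ← (R : Subgroup (stabilizer G a)).index_mul_card] at h2
    exact R.not_dvd_index (Nat.dvd_of_mul_dvd_mul_right Nat.card_pos h2)
  have hPdvd : r ∣ Nat.card G := (hri.trans ((commutator _).index_dvd_card)).trans
    (stabilizer G a).card_subgroup_dvd_card
  refine S.not_normalizer_le P hPdvd hrn fun g hg => ?_
  have hga : g • a = a := hPonly _ fun x hx => by
    have hx' : g⁻¹ * x * g ∈ (P : Subgroup G) := (mem_normalizer_iff''.1 hg x).1 hx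
    have := hPa _ hx'
    rwa [mul_smul, mul_smul, inv_smul_eq_iff] at this
  refine mem_centralizer_iff.2 fun x hx => ?_
  obtain ⟨v, hv, rfl⟩ := hx
  set γ : stabilizer G a := ⟨g, hga⟩
  have h1 : γ * v * γ⁻¹ * v⁻¹ ∈ commutator (stabilizer G a) :=
    Subgroup.commutator_mem_commutator (mem_top γ) (mem_top v)
  have h2 : γ * v * γ⁻¹ * v⁻¹ ∈ (R : Subgroup (stabilizer G a)) := by
    refine mul_mem ?_ (inv_mem hv)
    obtain ⟨w, hw, e⟩ := (mem_normalizer_iff.1 hg _).1 (mem_map_of_mem _ hv)
    have : w = γ * v * γ⁻¹ := Subtype.ext e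
    exact this ▸ hw
  have hdis : (R : Subgroup (stabilizer G a)) ⊓ commutator (stabilizer G a) = ⊥ := by
    refine inf_eq_bot_of_coprime ?_
    obtain ⟨k, hk⟩ := R.2.exists_card_eq
    rw [hk]
    refine Nat.Coprime.pow_left k (hr.coprime_iff_not_dvd.2 fun h => ?_)
    exact Nat.not_coprime_of_dvd_of_dvd hr.one_lt h hri (IsZGroup.coprime_commutator_index _)
  have h5 : γ * v * γ⁻¹ * v⁻¹ = 1 := mem_bot.1 (hdis ▸ mem_inf.2 ⟨h2, h1⟩)
  rw [mul_inv_eq_one, mul_inv_eq_iff_eq_mul] at h5
  exact (congrArg Subtype.val h5).symm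

theorem Setting.kerF_card {a b : Ω} (hab : a ≠ b) :
    Nat.card (kerF G a) = Fintype.card Ω - 1 := by
  refine le_antisymm ?_ (Nat.le_of_dvd Nat.card_pos ?_)
  · rw [← Finset.card_univ (α := Ω), ← Finset.card_erase_of_mem (Finset.mem_univ a),
      ← Fintype.card_coe, ← Nat.card_eq_fintype_card]
    refine Nat.card_le_card_of_injective (fun u : kerF G a =>
      (⟨(u : G) • b, Finset.mem_erase.2 ⟨fun e => hab (MulAction.injective (u : G)
        ((S.kerF_le a u.2).trans e.symm)), Finset.mem_univ _⟩⟩ : {q // q ∈ Finset.univ.erase a}))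
      fun u v e => ?_
    have e' : (u : G) • b = (v : G) • b := congrArg Subtype.val e
    exact Subtype.ext (inv_mul_eq_one.1 (S.kerF_semiregular hab (mul_mem (inv_mem u.2) v.2)
      (by rw [mul_smul, ← e', inv_smul_smul])))
  · have h1 := (commutator (stabilizer G a)).card_mul_index
    rw [S.card_stabilizer hab] at h1
    have h2 : Fintype.card Ω - 1 ∣ Nat.card (commutator (stabilizer G a)) * (commutator (stabilizer G a)).index :=
      h1 ▸ dvd_mul_right _ _
    rw [kerF, card_map_of_injective (stabilizer G a).subtype_injective]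
    exact (S.coprime_index a).dvd_of_dvd_mul_right h2

theorem Setting.isKernel (a : Ω) : Zassenhaus.IsKernel (kerF G a) a := by
  refine ⟨fun u hu => S.kerF_le a hu, fun g hg u hu => ?_, fun y z hy hz => ?_⟩
  · exact zpowers_le.2 hu (S.kerF_conj hg hu)
  · have hinj : Function.Injective fun u : kerF G a =>
        (⟨(u : G) • y, fun e => hy (MulAction.injective (u : G)
          (e.trans (S.kerF_le a u.2).symm))⟩ : {q : Ω // q ≠ a}) := fun u v e => by
      have e' : (u : G) • y = (v : G) • y := congrArg Subtype.val e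
      exact Subtype.ext (inv_mul_eq_one.1 (S.kerF_semiregular (Ne.symm hy)
        (mul_mem (inv_mem u.2) v.2) (by rw [mul_smul, ← e', inv_smul_smul])))
    have hbij := hinj.bijective_of_nat_card_le (by
      rw [S.kerF_card (Ne.symm hy), Nat.card_eq_fintype_card, Fintype.card_subtype_compl,
        Fintype.card_subtype_eq])
    obtain ⟨u, hu⟩ := hbij.2 ⟨z, hz⟩
    exact ⟨u, congrArg Subtype.val hu, fun v hv => hinj ((Subtype.ext hv : (⟨_, _⟩ :
      {q : Ω // q ≠ a}) = ⟨z, hz⟩).trans hu.symm)⟩

theorem Setting.kerF_odd {a : Ω} {u : G} (hu : u ∈ kerF G a) : Odd (orderOf u) := by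
  have h3 := S.three
  rw [Nat.card_eq_fintype_card] at h3
  haveI : Nontrivial Ω := Fintype.one_lt_card_iff_nontrivial.1 (by omega)
  obtain ⟨b, hb⟩ := exists_ne a
  refine Odd.of_dvd_nat ?_ (Subgroup.orderOf_dvd_natCard _ hu)
  rw [S.kerF_card (Ne.symm hb)]; exact S.odd_pred

/-- The stabiliser is the kernel times a two-point stabiliser. -/
theorem Setting.factor {a b : Ω} (hab : a ≠ b) {g : G} (hg : g • a = a) :
    ∃ u ∈ kerF G a, ∃ d ∈ Zassenhaus.twoPt G a b, g = u * d := by
  obtain ⟨u, hu, -⟩ := (S.isKernel a).reg b (g • b) (Ne.symm hab)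
    fun e => hab (MulAction.injective g (hg.trans e.symm))
  refine ⟨u, u.2, (u : G)⁻¹ * g, ⟨?_, ?_⟩, (mul_inv_cancel_left _ _).symm⟩
  · show ((u : G)⁻¹ * g) • a = a
    rw [mul_smul, hg, inv_smul_eq_iff]; exact (S.kerF_le a u.2).symm
  · show ((u : G)⁻¹ * g) • b = b
    rw [mul_smul, ← hu, inv_smul_smul]

/-- Two-point stabilisers are cyclic. -/
theorem Setting.twoPt_cyclic {a b : Ω} (hab : a ≠ b) : IsCyclic (Zassenhaus.twoPt G a b) := by
  haveI := S.zgroup a
  let f : Zassenhaus.twoPt G a b →* Abelianization (stabilizer G a) :=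
    Abelianization.of.comp (inclusion inf_le_left)
  refine isCyclic_of_injective f ((injective_iff_map_eq_one _).2 fun d hd => Subtype.ext ?_)
  refine S.kerF_semiregular hab (u := (d : G)) ?_ d.2.2
  exact ⟨inclusion inf_le_left d, (QuotientGroup.eq_one_iff _).1 hd, rfl⟩

theorem Setting.sgn_generator : ∃ x ∈ A, sgn G Ω x = -1 := by
  haveI := S.cyclic
  obtain ⟨⟨x, hx⟩, hgen⟩ := IsCyclic.exists_generator (α := A)
  have hord : orderOf x = Fintype.card Ω := by
    rw [← S.card_A, ← orderOf_eq_card_of_forall_mem_zpowers hgen, orderOf_mk]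
  refine ⟨x, hx, ?_⟩
  show Equiv.Perm.sign (toPermHom G Ω x) = -1
  refine sign_semiregular_of_even S.even (by
    have := S.three; rw [Nat.card_eq_fintype_card] at this; omega) ?_ ?_ ?_
  · rw [← map_pow, ← hord, pow_orderOf_eq_one, map_one]
  · intro i h0 hi p e
    rw [← map_pow, toPermHom_apply, MulAction.toPerm_apply] at e
    exact pow_ne_one_of_lt_orderOf (by omega) (hord ▸ hi) (S.semiregular (pow_mem hx i) e)
  · rw [Nat.div_self (by have := S.three; rw [Nat.card_eq_fintype_card] at this; omega)]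
    exact odd_one

/-- A two-point stabiliser has an odd generator and so even order. -/
theorem Setting.exists_odd_generator {a b : Ω} (hab : a ≠ b) :
    ∃ c ∈ Zassenhaus.twoPt G a b, (∀ d ∈ Zassenhaus.twoPt G a b, d ∈ zpowers c) ∧
      sgn G Ω c = -1 := by
  haveI := S.twoPt_cyclic hab
  obtain ⟨⟨c, hc⟩, hgen⟩ := IsCyclic.exists_generator (α := Zassenhaus.twoPt G a b)
  have hgen' : ∀ d ∈ Zassenhaus.twoPt G a b, d ∈ zpowers c := fun d hd => by
    obtain ⟨i, hi⟩ := mem_zpowers_iff.1 (hgen ⟨d, hd⟩)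
    exact mem_zpowers_iff.2 ⟨i, congrArg Subtype.val hi⟩
  refine ⟨c, hc, hgen', (Int.units_eq_one_or _).resolve_left fun h1 => ?_⟩
  obtain ⟨x, -, hx⟩ := S.sgn_generator
  obtain ⟨q, hqa, hqb⟩ := Zassenhaus.exists_third S.three a b
  have := CyclicZ.hom_eq_one (a := a) (b := b) (c := q) (Δ := Set.univ) (sgn G Ω) (fun _ _ _ => Set.mem_univ _)
    (Set.mem_univ _) (Set.mem_univ _) (Set.mem_univ _) (Ne.symm hab) hqa (Ne.symm hqb)
    (fun p _ r _ hp hr => by
      obtain ⟨g, hg1, hg2⟩ := S.two (Ne.symm hp) (Ne.symm hr); exact ⟨g, hg1, hg2⟩)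
    (by obtain ⟨g, hg1, -⟩ := S.two hab (Ne.symm hab); exact ⟨g, hg1 ▸ Ne.symm hab⟩)
    (fun g hg => by
      obtain ⟨u, hu, d, hd, rfl⟩ := S.factor hab hg
      rw [map_mul, units_int_eq_one_of_odd_order _ u (S.kerF_odd hu), one_mul]
      obtain ⟨i, rfl⟩ := mem_zpowers_iff.1 (hgen' d hd)
      rw [map_zpow, h1, one_zpow]) x
  rw [hx] at this
  exact absurd this (by decide)

theorem Setting.even_twoPt {a b : Ω} (hab : a ≠ b) :
    2 ∣ Nat.card (Zassenhaus.twoPt G a b) := by
  obtain ⟨c, hc, -, hs⟩ := S.exists_odd_generator hab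
  rcases Nat.even_or_odd (orderOf c) with h | h
  · exact h.two_dvd.trans (Subgroup.orderOf_dvd_natCard _ hc)
  · rw [units_int_eq_one_of_odd_order _ c h] at hs
    exact absurd hs (by decide)

end Cfsg.Agent.CyclicZ
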