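import Cfsg.Agent.CyclicZ.Like

/-!
A factorised group has a 2-generated Sylow 2-subgroup, so it cannot have two independent quotients
like `PGL₂`.
-/

set_option autoImplicit false
set_option linter.style.haveILetI false

namespace Cfsg.Agent.CyclicZ

open Subgroup

variable {X : Type*} [Group X] {T : Subgroup X}

theorem IsLike.ne_bot (h : IsLike T) : T ≠ ⊥ := fun e => h.notSolvable (by
  subst e; infer_instance)

theorem IsLike.not_solvable (h : IsLike T) : ¬ Group.IsSolvable X := fun hX =>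
  h.notSolvable (haveI := hX; inferInstance)

/-- Every nontrivial normal subgroup contains the simple subgroup. -/
theorem IsLike.le_of_normal (h : IsLike T) {N : Subgroup X} [N.Normal] (hN : N ≠ ⊥) : T ≤ N := by
  haveI := h.normal
  haveI := h.simple
  rcases IsSimpleGroup.eq_bot_or_eq_top_of_normal (N.subgroupOf T) inferInstance with hb | ht
  · exfalso
    refine hN (eq_bot_iff.2 (le_trans (fun n hn => ?_) h.cent.le))
    refine mem_centralizer_iff.2 fun t ht => ?_
    exact Subgroup.commute_of_normal_of_disjoint T N inferInstance inferInstance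
      (disjoint_iff.2 (by rw [inf_comm]; exact disjoint_iff.1 (subgroupOf_eq_bot.1 hb))) t n ht hn
  · exact subgroupOf_eq_top.1 ht

theorem IsLike.eq_bot_of_solvable (h : IsLike T) {N : Subgroup X} [N.Normal]
    (hN : Group.IsSolvable N) : N = ⊥ := by
  by_contra hne
  exact h.notSolvable (isSolvable_of_le (h.le_of_normal hne) hN)

theorem IsLike.index_dvd (h : IsLike T) {N : Subgroup X} [N.Normal] (hN : N ≠ ⊥) :
    N.index ∣ 2 := h.index ▸ index_dvd_of_le (h.le_of_normal hN)

/-- In a finite 2-group every proper subgroup lies in a subgroup of index 2. -/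
theorem exists_index_two_ge {S : Type*} [Group S] [Finite S] (hS : IsPGroup 2 S) {H : Subgroup S}
    (hH : H ≠ ⊤) : ∃ M : Subgroup S, M.index = 2 ∧ H ≤ M := by
  haveI := Fact.mk Nat.prime_two
  obtain ⟨k, hk⟩ := hS.exists_card_eq
  obtain ⟨i, hi⟩ := (hS.to_subgroup H).exists_card_eq
  have hik : i < k := by
    rw [← Nat.pow_lt_pow_iff_right (a := 2) one_lt_two, ← hi, ← hk]
    exact lt_of_le_of_ne H.card_le_card_group fun e => hH (H.eq_top_of_card_eq e)
  obtain ⟨M, hM, hHM⟩ := Sylow.exists_subgroup_card_pow_prime_le 2 (n := i) (m := k - 1)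
    (by rw [hk]; exact pow_dvd_pow 2 (by omega)) H hi (by omega)
  refine ⟨M, ?_, hHM⟩
  have h1 := M.card_mul_index
  rw [hM, hk] at h1
  refine Nat.eq_of_mul_eq_mul_left (show 0 < 2 ^ (k - 1) by positivity) ?_
  rw [h1, ← pow_succ]
  congr 1
  omega

theorem exists_two_index_two {S : Type*} [Group S] [Finite S] (hS : IsPGroup 2 S)
    (hc : ¬ IsCyclic S) :
    ∃ M M' : Subgroup S, M.index = 2 ∧ M'.index = 2 ∧ M ≠ M' := by
  haveI : Nontrivial S := by
    by_contra hn
    rw [not_nontrivial_iff_subsingleton] at hn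
    exact hc inferInstance
  obtain ⟨M, hM, -⟩ := exists_index_two_ge hS (H := ⊥) bot_ne_top
  obtain ⟨g, -, hg⟩ := SetLike.exists_of_lt (lt_top_iff_ne_top.2 (fun e => by
    rw [e, index_top] at hM; omega : M ≠ ⊤))
  have hne : zpowers g ≠ ⊤ := fun e =>
    hc (isCyclic_iff_exists_zpowers_eq_top.2 ⟨g, e⟩)
  obtain ⟨M', hM', hle⟩ := exists_index_two_ge hS hne
  exact ⟨M, M', hM, hM', fun e => hg (e ▸ hle (mem_zpowers g))⟩

/-- The Sylow 2-subgroups of a group like `PGL₂` are not cyclic. -/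
theorem IsLike.not_cyclic [Finite X] (h : IsLike T) (P : Sylow 2 X) : ¬ IsCyclic P := by
  intro hP
  haveI := Fact.mk Nat.prime_two
  obtain ⟨Q⟩ := (inferInstance : Nonempty (Sylow 2 T))
  obtain ⟨P', hP'⟩ := (Q.2.map T.subtype).exists_le_sylow
  have hP'c : IsCyclic P' :=
    isCyclic_of_surjective (P.equiv P').toMonoidHom (P.equiv P').surjective
  have hQc : IsCyclic Q := by
    haveI : IsCyclic ((Q : Subgroup T).map T.subtype) :=
      isCyclic_of_injective (inclusion hP') (inclusion_injective hP')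
    exact isCyclic_of_injective ((Q : Subgroup T).equivMapOfInjective T.subtype
      T.subtype_injective).toMonoidHom (MulEquiv.injective _)
  have hmin : (Nat.card T).minFac = 2 := (Nat.minFac_eq_two_iff _).2 h.even
  have hcomp := IsCyclic.isComplement' hmin hQc
  haveI := h.simple
  rcases IsSimpleGroup.eq_bot_or_eq_top_of_normal
      (MonoidHom.transferSylow Q (hQc.normalizer_le_centralizer hmin)).ker inferInstance with hb | ht
  · rw [hb] at hcomp
    have : (Q : Subgroup T) = ⊤ := isComplement'_bot_left.1 hcomp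
    exact h.notSolvable (Group.isSolvable_of_surjective (f := (Q : Subgroup T).subtype)
      (fun x => ⟨⟨x, this ▸ mem_top x⟩, rfl⟩))
  · rw [ht] at hcomp
    have := Q.ne_bot_of_dvd_card h.even
    exact this (isComplement'_top_left.1 hcomp)

/-- A quotient with squares trivial of a product of two cyclic groups has order at most 4. -/
theorem index_le_four {S : Type*} [Group S] (x y : S)
    (hgen : ∀ s : S, ∃ i j : ℤ, s = x ^ i * y ^ j) (Q : Subgroup S) [Q.Normal]
    (hsq : ∀ s : S, s * s ∈ Q) : Q.index ≤ 4 := by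
  classical
  let f : Fin 2 × Fin 2 → S ⧸ Q := fun e => (x : S ⧸ Q) ^ (e.1 : ℤ) * (y : S ⧸ Q) ^ (e.2 : ℤ)
  have hpow : ∀ (z : S) (i : ℤ), ∃ e : Fin 2, (z : S ⧸ Q) ^ i = (z : S ⧸ Q) ^ (e : ℤ) := by
    intro z i
    have h1 : (z : S ⧸ Q) ^ (2 : ℤ) = 1 := by
      rw [zpow_two, ← QuotientGroup.mk_mul, QuotientGroup.eq_one_iff]; exact hsq z
    refine ⟨⟨(i % 2).toNat, by omega⟩, ?_⟩
    show _ = (z : S ⧸ Q) ^ (((i % 2).toNat : ℕ) : ℤ)
    rw [Int.toNat_of_nonneg (by omega)]
    conv_lhs => rw [← Int.emod_add_mul_ediv i 2, zpow_add, zpow_mul, h1, one_zpow, mul_one]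
  have hf : Function.Surjective f := by
    intro q
    obtain ⟨s, rfl⟩ := QuotientGroup.mk_surjective q
    obtain ⟨i, j, rfl⟩ := hgen s
    obtain ⟨a, ha⟩ := hpow x i
    obtain ⟨b, hb⟩ := hpow y j
    refine ⟨(a, b), ?_⟩
    show _ * _ = _
    rw [← ha, ← hb]
    rfl
  calc Q.index = Nat.card (S ⧸ Q) := index_eq_card Q
    _ ≤ Nat.card (Fin 2 × Fin 2) := Nat.card_le_card_of_surjective f hf
    _ = 4 := by simp

theorem relIndex_dvd_index {G : Type*} [Group G] [Finite G] (S C : Subgroup G) [C.Normal] :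
    S.relIndex C ∣ S.index := by
  have e1 := relIndex_sup_right S C
  have a1 := (C.subgroupOf (S ⊔ C)).card_mul_index
  have a2 := (C.subgroupOf S).card_mul_index
  have a3 := (S.subgroupOf C).card_mul_index
  rw [Nat.card_congr (subgroupOfEquivOfLe (le_sup_right : C ≤ S ⊔ C)).toEquiv, ← relIndex, e1] at a1
  rw [← relIndex, Nat.card_congr ((C.subgroupOf S).equivMapOfInjective S.subtype
    S.subtype_injective).toEquiv, subgroupOf_map_subtype] at a2
  rw [← relIndex, Nat.card_congr ((S.subgroupOf C).equivMapOfInjective C.subtype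
    C.subtype_injective).toEquiv, subgroupOf_map_subtype, inf_comm] at a3
  have a4 : Nat.card S * S.relIndex C = Nat.card ↥(S ⊔ C) := by
    rw [← a1, ← a3, ← a2]; ring
  refine Nat.dvd_of_mul_dvd_mul_left (Nat.card_pos (α := S)) ?_
  rw [a4, S.card_mul_index]
  exact (S ⊔ C).card_subgroup_dvd_card

theorem relIndex_map_dvd_relIndex {G G' : Type*} [Group G] [Group G'] (f : G →* G')
    {E C : Subgroup G} (h : E ≤ C) : (E.map f).relIndex (C.map f) ∣ E.relIndex C := by
  have e : (E.subgroupOf C).map (f.subgroupMap C) = (E.map f).subgroupOf (C.map f) := by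
    ext ⟨y, hy⟩
    constructor
    · rintro ⟨c, hc, hce⟩
      exact ⟨c, hc, congrArg Subtype.val hce⟩
    · rintro ⟨c, hc, hce⟩
      exact ⟨⟨c, h hc⟩, hc, Subtype.ext hce⟩
  rw [relIndex, relIndex, ← e]
  exact index_map_dvd _ (f.subgroupMap_surjective C)

/-- A group with two independent quotients like `PGL₂` has no 2-generated Sylow 2-subgroup of the
form product of two cyclic groups. -/
theorem two_quotients_false {G X₁ X₂ : Type*} [Group G] [Finite G] [Group X₁] [Finite X₁] [Group X₂]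
    [Finite X₂] {T₁ : Subgroup X₁} {T₂ : Subgroup X₂} (h₁ : IsLike T₁) (h₂ : IsLike T₂)
    (f₁ : G →* X₁) (hf₁ : Function.Surjective f₁) (f₂ : G →* X₂) (hf₂ : Function.Surjective f₂)
    (hker : ¬ f₁.ker ≤ f₂.ker) (S : Sylow 2 G) (x y : S)
    (hgen : ∀ s : S, ∃ i j : ℤ, s = x ^ i * y ^ j) : False := by
  classical
  haveI := Fact.mk Nat.prime_two
  let S₁ := S.mapSurjective hf₁
  let S₂ := S.mapSurjective hf₂
  let g₁ : S →* S₁ := f₁.subgroupMap (S : Subgroup G)
  let g₂ : S →* S₂ := f₂.subgroupMap (S : Subgroup G)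
  have hg₁ : Function.Surjective g₁ := f₁.subgroupMap_surjective _
  have hg₂ : Function.Surjective g₂ := f₂.subgroupMap_surjective _
  obtain ⟨M, M', hM, hM', hMM'⟩ := exists_two_index_two S₁.2 (h₁.not_cyclic S₁)
  obtain ⟨L, L', hL, hL', hLL'⟩ := exists_two_index_two S₂.2 (h₂.not_cyclic S₂)
  -- the image of the kernel
  set C := f₁.ker with hC
  have hCb : C.map f₂ ≠ ⊥ := fun e => hker (fun c hc => by
    rw [MonoidHom.mem_ker, ← Subgroup.mem_bot, ← e]; exact mem_map_of_mem f₂ hc)
  haveI : (C.map f₂).Normal := Subgroup.Normal.map inferInstance f₂ hf₂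
  set D : Subgroup S := (C.subgroupOf (S : Subgroup G)).map (MonoidHom.id S) with hD
  have hDeq : D = C.subgroupOf (S : Subgroup G) := Subgroup.map_id _
  have hD2 : (D.map g₂).index ∣ 2 := by
    let E : Subgroup G := (S : Subgroup G) ⊓ C
    have hodd : ¬ 2 ∣ E.relIndex C := by
      rw [inf_relIndex_right]
      intro h
      exact S.not_dvd_index (h.trans (relIndex_dvd_index _ _))
    have hEmap : (D.map g₂).map (S₂ : Subgroup X₂).subtype = E.map f₂ := by
      rw [hDeq, Subgroup.map_map]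
      have e : (S₂ : Subgroup X₂).subtype.comp g₂ = f₂.comp (S : Subgroup G).subtype := rfl
      rw [e, ← Subgroup.map_map, subgroupOf_map_subtype, inf_comm]
    have h1 : ((D.map g₂).map (S₂ : Subgroup X₂).subtype).index = (D.map g₂).index *
        (S₂ : Subgroup X₂).index := by
      rw [index_map_subtype]
    have h2 : (E.map f₂).index ∣ E.relIndex C * 2 := by
      rw [← relIndex_mul_index (map_mono (inf_le_right : E ≤ C) : E.map f₂ ≤ C.map f₂)]
      exact mul_dvd_mul (relIndex_map_dvd_relIndex f₂ (inf_le_right : E ≤ C)) (h₂.index_dvd hCb)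
    rw [← hEmap, h1] at h2
    obtain ⟨k, hk⟩ := IsPGroup.index S₂.2 (D.map g₂)
    rw [hk] at h2 ⊢
    exact ((Nat.Coprime.pow_left k ((Nat.prime_two.coprime_iff_not_dvd).2 hodd)).dvd_mul_left).1
      ((dvd_mul_right _ _).trans h2)
  obtain ⟨N, hN, hDN⟩ : ∃ N : Subgroup S₂, N.index = 2 ∧ ¬ D.map g₂ ≤ N := by
    by_contra hcon
    push Not at hcon
    have hlt : L ⊓ L' < L := lt_of_le_of_ne inf_le_left fun e =>
      hLL' (eq_of_le_of_card_ge (inf_eq_left.1 e) (le_of_eq (by
        have a1 := L.card_mul_index; have a2 := L'.card_mul_index; rw [hL] at a1; rw [hL'] at a2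
        omega)))
    have h3 := index_strictAnti hlt
    have h4 := Nat.le_of_dvd (Nat.pos_of_ne_zero index_ne_zero_of_finite)
      (index_dvd_of_le (le_inf (hcon L hL) (hcon L' hL') : D.map g₂ ≤ L ⊓ L'))
    have := Nat.le_of_dvd (by norm_num) hD2
    omega
  set Q₁ : Subgroup S := M.comap g₁ ⊓ M'.comap g₁ with hQ₁
  set Q : Subgroup S := Q₁ ⊓ N.comap g₂ with hQ
  have hMn := normal_of_index_eq_two hM
  have hM'n := normal_of_index_eq_two hM'
  have hNn := normal_of_index_eq_two hN
  haveI : Q.Normal := by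
    rw [hQ, hQ₁]; exact Subgroup.normal_inf_normal _ _
  have hsq : ∀ s : S, s * s ∈ Q := fun s =>
    ⟨⟨by show g₁ (s * s) ∈ M; rw [map_mul]; exact mul_self_mem_of_index_two hM _,
      by show g₁ (s * s) ∈ M'; rw [map_mul]; exact mul_self_mem_of_index_two hM' _⟩,
      by show g₂ (s * s) ∈ N; rw [map_mul]; exact mul_self_mem_of_index_two hN _⟩
  have hlt : Q < Q₁ := lt_of_le_of_ne inf_le_left fun e => by
    refine hDN ?_
    rintro _ ⟨d, hd, rfl⟩
    have hd1 : g₁ d = 1 := Subtype.ext (show f₁ d = 1 from (hDeq ▸ hd : d ∈ C.subgroupOf _))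
    have hdQ : d ∈ Q₁ := ⟨by show g₁ d ∈ M; rw [hd1]; exact one_mem M,
      by show g₁ d ∈ M'; rw [hd1]; exact one_mem M'⟩
    rw [← e] at hdQ
    exact hdQ.2
  have hlt₁ : Q₁ < M.comap g₁ := lt_of_le_of_ne inf_le_left fun e => by
    refine hMM' (eq_of_le_of_card_ge ?_ (le_of_eq ?_))
    · exact (comap_le_comap_of_surjective hg₁).1 (inf_eq_left.1 e)
    · have a1 := M.card_mul_index; have a2 := M'.card_mul_index; rw [hM] at a1; rw [hM'] at a2
      omega
  have i1 : Q₁.index ≠ 2 ∧ 2 < Q₁.index := by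
    have := index_strictAnti hlt₁
    rw [index_comap_of_surjective _ hg₁, hM] at this
    omega
  have i2 := index_strictAnti hlt
  obtain ⟨k, hk⟩ := IsPGroup.index S.2 Q
  obtain ⟨k₁, hk₁⟩ := IsPGroup.index S.2 Q₁
  have h4 := index_le_four x y hgen Q hsq
  rw [hk₁, hk] at i2
  rw [hk₁] at i1
  rw [hk] at h4
  have a1 : 1 < k₁ := by
    by_contra hc
    have : k₁ = 0 ∨ k₁ = 1 := by omega
    rcases this with rfl | rfl <;> simp at i1
  have a2 : k₁ < k := (Nat.pow_lt_pow_iff_right one_lt_two).1 i2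
  have : 2 ^ 3 ≤ 2 ^ k := Nat.pow_le_pow_right (by norm_num) (by omega)
  omega

/-- A conjugate of the second factor meets the first only in their intersection. -/
theorem inf_conj_le {G : Type*} [Group G] (A B : Subgroup G) (hAc : IsCyclic A)
    (hAB : ∀ g : G, ∃ a ∈ A, ∃ b ∈ B, g = a * b) (g : G) :
    A ⊓ B.map (MulAut.conj g).toMonoidHom ≤ A ⊓ B := by
  rintro x ⟨hxA, z, hz, rfl⟩
  obtain ⟨a, ha, b, hb, rfl⟩ := hAB g
  refine ⟨hxA, ?_⟩
  letI := hAc.commGroup
  have hcomm : a * (a * b * z * (a * b)⁻¹) = a * b * z * (a * b)⁻¹ * a :=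
    congrArg Subtype.val (mul_comm (⟨a, ha⟩ : A) ⟨_, hxA⟩)
  have e : a * b * z * (a * b)⁻¹ = b * z * b⁻¹ := by
    have e1 : a⁻¹ * (a * (a * b * z * (a * b)⁻¹)) = a * b * z * (a * b)⁻¹ := by group
    have e2 : a⁻¹ * (a * b * z * (a * b)⁻¹ * a) = b * z * b⁻¹ := by group
    rw [← e1, hcomm, e2]
  show a * b * z * (a * b)⁻¹ ∈ B
  rw [e]
  exact mul_mem (mul_mem hb hz) (inv_mem hb)

theorem card_mul_of_factor {G : Type*} [Group G] [Finite G] (A B : Subgroup G)
    (hAB : ∀ g : G, ∃ a ∈ A, ∃ b ∈ B, g = a * b) :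
    Nat.card G * Nat.card ↥(A ⊓ B) = Nat.card A * Nat.card B := by
  have h1 : B.relIndex A = B.index := by
    rw [relIndex, index_eq_card, index_eq_card]
    refine Nat.card_eq_of_bijective (fun q => Quotient.liftOn' q (fun a => ((a : G) : G ⧸ B))
      fun u v huv => QuotientGroup.eq.2 (by
        have := QuotientGroup.leftRel_apply.1 huv
        simpa [mem_subgroupOf] using this)) ⟨?_, ?_⟩
    · intro u v
      induction u using QuotientGroup.induction_on with
      | H u =>
        induction v using QuotientGroup.induction_on with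
        | H v =>
          intro huv
          exact QuotientGroup.eq.2 (by simpa [mem_subgroupOf] using QuotientGroup.eq.1 huv)
    · intro q
      induction q using QuotientGroup.induction_on with
      | H g =>
        obtain ⟨a, ha, b, hb, rfl⟩ := hAB g
        exact ⟨QuotientGroup.mk ⟨a, ha⟩, QuotientGroup.eq.2 (by simpa using hb)⟩
  have h2 := relIndex_mul_index (inf_le_left : A ⊓ B ≤ A)
  have h3 := (B.subgroupOf A).card_mul_index
  rw [← relIndex, h1, Nat.card_congr ((B.subgroupOf A).equivMapOfInjective A.subtype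
    A.subtype_injective).toEquiv, subgroupOf_map_subtype, inf_comm] at h3
  rw [← B.card_mul_index, ← h3]
  ring

/-- A product of a cyclic group and a Z-group has a Sylow 2-subgroup that is a product of two
cyclic groups. -/
theorem exists_sylow_two_gen {G : Type*} [Group G] [Finite G] (A B : Subgroup G) (hAc : IsCyclic A)
    [IsZGroup B] (hAB : ∀ g : G, ∃ a ∈ A, ∃ b ∈ B, g = a * b) :
    ∃ (S : Sylow 2 G) (x y : S), ∀ s : S, ∃ i j : ℤ, s = x ^ i * y ^ j := by
  classical
  haveI := Fact.mk Nat.prime_two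
  obtain ⟨H₀⟩ := (inferInstance : Nonempty (Sylow 2 A))
  obtain ⟨K₀⟩ := (inferInstance : Nonempty (Sylow 2 B))
  set H := (H₀ : Subgroup A).map A.subtype with hH
  set K₁ := (K₀ : Subgroup B).map B.subtype with hK₁
  obtain ⟨S, hHS⟩ := (H₀.2.map A.subtype).exists_le_sylow
  obtain ⟨P, hKP⟩ := (K₀.2.map B.subtype).exists_le_sylow
  obtain ⟨g, hg⟩ := MulAction.exists_smul_eq G P S
  set K := K₁.map (MulAut.conj g).toMonoidHom with hK
  have hKS : K ≤ (S : Subgroup G) := by
    rw [← hg, Sylow.coe_subgroup_smul, Subgroup.pointwise_smul_def]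
    exact map_mono hKP
  have hcH : Nat.card H = Nat.card H₀ := card_map_of_injective A.subtype_injective
  have hcK : Nat.card K = Nat.card K₀ := by
    rw [hK, hK₁, card_map_of_injective (MulAut.conj g).injective,
      card_map_of_injective B.subtype_injective]
  have hHK : Nat.card ↥(H ⊓ K) ∣ Nat.card ↥(A ⊓ B) := by
    refine card_dvd_of_le (le_trans (inf_le_inf ?_ ?_) (inf_conj_le A B hAc hAB g))
    · exact map_subtype_le _
    · exact map_mono (map_subtype_le _)
  have hdvd : Nat.card S * Nat.card ↥(H ⊓ K) ∣ Nat.card H₀ * Nat.card K₀ := by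
    have h1 : Nat.card S * Nat.card ↥(H ⊓ K) ∣
        Nat.card H₀ * Nat.card K₀ * ((H₀ : Subgroup A).index * (K₀ : Subgroup B).index) := by
      rw [show Nat.card H₀ * Nat.card K₀ * ((H₀ : Subgroup A).index * (K₀ : Subgroup B).index) =
        Nat.card H₀ * (H₀ : Subgroup A).index * (Nat.card K₀ * (K₀ : Subgroup B).index) by ring,
        (H₀ : Subgroup A).card_mul_index, (K₀ : Subgroup B).card_mul_index,
        ← card_mul_of_factor A B hAB]
      exact mul_dvd_mul (S : Subgroup G).card_subgroup_dvd_card hHK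
    obtain ⟨k, hk⟩ := S.2.exists_card_eq
    obtain ⟨l, hl⟩ := (IsPGroup.to_le (H₀.2.map A.subtype) (inf_le_left : H ⊓ K ≤ H)).exists_card_eq
    refine Nat.Coprime.dvd_of_dvd_mul_right ?_ h1
    rw [hk, hl, ← pow_add]
    exact Nat.Coprime.pow_left _ (Nat.Coprime.mul_right
      (Nat.prime_two.coprime_iff_not_dvd.2 H₀.not_dvd_index)
      (Nat.prime_two.coprime_iff_not_dvd.2 K₀.not_dvd_index))
  let f : (H ⧸ K.subgroupOf H) × K → S := fun e =>
    ⟨(e.1.out : G) * e.2, mul_mem (hHS e.1.out.2) (hKS e.2.2)⟩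
  have hf : Function.Injective f := by
    rintro ⟨u, k⟩ ⟨v, k'⟩ e
    have e' : (u.out : G) * k = (v.out : G) * k' := congrArg Subtype.val e
    have huv : u = v := by
      rw [← u.out_eq', ← v.out_eq', QuotientGroup.eq, mem_subgroupOf]
      push_cast
      rw [show (u.out : G)⁻¹ * (v.out : G) = (k : G) * (k' : G)⁻¹ by
        rw [inv_mul_eq_iff_eq_mul, ← mul_assoc, e', mul_inv_cancel_right]]
      exact mul_mem k.2 (inv_mem k'.2)
    subst huv
    exact Prod.ext rfl (Subtype.ext (mul_left_cancel e'))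
  have hbij : Function.Bijective f := by
    refine hf.bijective_of_nat_card_le ?_
    have h3 := (K.subgroupOf H).card_mul_index
    rw [Nat.card_congr ((K.subgroupOf H).equivMapOfInjective H.subtype H.subtype_injective).toEquiv,
      subgroupOf_map_subtype, inf_comm, index_eq_card, hcH] at h3
    rw [Nat.card_prod, hcK]
    have hle := Nat.le_of_dvd (Nat.mul_pos Nat.card_pos Nat.card_pos) hdvd
    rw [← h3, mul_assoc, mul_comm (Nat.card S)] at hle
    exact Nat.le_of_mul_le_mul_left hle Nat.card_pos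
  haveI := hAc
  haveI : IsCyclic H := isCyclic_of_injective (inclusion (map_subtype_le _ : H ≤ A))
    (inclusion_injective _)
  haveI : IsCyclic K := by
    haveI : IsCyclic K₁ := isCyclic_of_surjective ((K₀ : Subgroup B).equivMapOfInjective B.subtype
      B.subtype_injective).toMonoidHom (MulEquiv.surjective _)
    exact isCyclic_of_surjective (K₁.equivMapOfInjective (MulAut.conj g).toMonoidHom
      (MulAut.conj g).injective).toMonoidHom (MulEquiv.surjective _)
  obtain ⟨a, ha⟩ := IsCyclic.exists_generator (α := H)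
  obtain ⟨b, hb⟩ := IsCyclic.exists_generator (α := K)
  refine ⟨S, ⟨a, hHS a.2⟩, ⟨b, hKS b.2⟩, fun s => ?_⟩
  obtain ⟨⟨u, k⟩, rfl⟩ := hbij.2 s
  obtain ⟨i, hi⟩ := mem_zpowers_iff.1 (ha u.out)
  obtain ⟨j, hj⟩ := mem_zpowers_iff.1 (hb k)
  refine ⟨i, j, Subtype.ext ?_⟩
  show (u.out : G) * (k : G) = _
  rw [← hi, ← hj]
  push_cast
  rfl

end Cfsg.Agent.CyclicZ
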